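import Cfsg.Agent.Lib.Invol.Goldschmidt.RankTwoCase.Basic
import Cfsg.Agent.Lib.Recog.UFourSylow.Main
import Cfsg.Agent.S0516
import Mathlib.FieldTheory.Finite.GaloisField

/-!
Owner: helper18.  Slice VI of S1169: some involution of `S` lies outside `A`.  Otherwise the group has
2-rank two, so its Sylow 2-subgroup is that of `U₃(4)`, and then `C(a) ≤ N(A)`.
-/

set_option autoImplicit false
set_option linter.unusedSectionVars false
set_option linter.style.haveILetI false

namespace CfsgLib.Goldschmidt.RankTwoCase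

open Subgroup
open CfsgLib.Signalizer (involution_ne_one orderOf_eq_two_of)
open CfsgLib.USylow

universe u

variable {G : Type u} [Group G] [Finite G]

/-- In a simple group with this type of Sylow 2-subgroup, central involutions have small centralisers, or the
involution centralisers are 2-nilpotent, which is impossible. -/
theorem centralizer_le_centre_of_uType [IsSimpleGroup G] (S : Sylow 2 G) (hT : UType ↥(S : Subgroup G) 2)
    (hU : CfsgLib.InvCent.UnitarySylow.U34 ↥(S : Subgroup G)) {t : G} (ht : t ∈ Zs S) (ht2 : orderOf t = 2) :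
    centralizer ({t} : Set G) ≤ centralizer (Zs S : Set G) := by
  haveI : Fact (Nat.Prime 2) := ⟨Nat.prime_two⟩
  haveI := Fintype.ofFinite G
  have hO : Cfsg.oddCore G = ⊥ := CfsgLib.Classical.AbSylow.oddCore_eq_bot_simple ht2
  have hc := CfsgLib.Recog.UFourSylow.no_central_involution hT
  have hone := CfsgLib.Recog.UFourSylow.one_class hT hO hc
  have hcl : ∀ z : G, orderOf z = 2 → Closed ↥(centralizer ({z} : Set G)) := fun z hz =>
    CfsgLib.Recog.UFourSylow.closed_centralizer hT hc hz
  rcases CfsgLib.UFour.twoNilp_or_loc hT hone hcl with h | h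
  · let K : CfsgLib.InvCent.UnitarySylow.Ctx S := ⟨h, hU, CfsgLib.Recog.UFourSylow.not_isolated hO hc⟩
    obtain ⟨n, C⟩ := K.exists_Cycle
    exact (K.false_of_cycle C).elim
  obtain ⟨M, hM⟩ := CfsgLib.ZStar.exists_isPModular (p := 2) Nat.prime_two
  haveI := hM.2.1.isPrime
  obtain ⟨x, A, f, L⟩ := h t ht ht2
  obtain ⟨χ, hχ, -, d, T, hd, hTv, hne, hlt, -⟩ := L.exists_small hM fun χ _ hχ =>
    CfsgLib.UFour.apply_ne_degree_of_simple (CfsgLib.Signalizer.involution_ne_one ht2) hχ
  exact CfsgLib.UFour.centralizer_le_Zs hT hone ht ht2 (hcl t ht2)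
    ⟨M, hM, χ, hχ, d, T, hd, hTv, hne, by omega⟩

/-- A dihedral group of order at least eight has more than three involutions. -/
theorem dihedral_involutions {n : ℕ} (hn : 4 ≤ n) :
    ∃ f : Fin 4 → DihedralGroup n, Function.Injective f ∧ ∀ i, f i * f i = 1 ∧ f i ≠ 1 := by
  refine ⟨fun i => DihedralGroup.sr ((i : ℕ) : ZMod n), fun i j h => ?_, fun i => ⟨?_, ?_⟩⟩
  · have h1 : ((i : ℕ) : ZMod n) = ((j : ℕ) : ZMod n) := by
      simpa using h
    have h2 := (ZMod.natCast_eq_natCast_iff' _ _ _).1 h1
    rw [Nat.mod_eq_of_lt (by omega), Nat.mod_eq_of_lt (by omega)] at h2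
    exact Fin.ext h2
  · exact DihedralGroup.sr_mul_self _
  · rw [DihedralGroup.one_def]
    exact fun h => by injection h

namespace Case

variable {S : Sylow 2 G} {A : Subgroup G} (c : Case S A)
include c

/-- **Some involution of `S` lies outside `A`.** -/
theorem exists_outside (hmain : CfsgLib.AschCrit.Main.{u}) :
    ∃ u ∈ (S : Subgroup G), u * u = 1 ∧ u ∉ A := by
  classical
  haveI : Fact (Nat.Prime 2) := ⟨Nat.prime_two⟩
  haveI := c.set.simple
  by_contra hno
  push Not at hno
  have hcen : ∀ x ∈ (S : Subgroup G), x * x = 1 → ∀ s ∈ (S : Subgroup G), Commute x s :=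
    fun x hx hx2 s hs => c.central (hno x hx hx2) hs
  have hrank : Cfsg.PRankLE 2 2 G := by
    intro E hEc hE
    obtain ⟨g, hg⟩ := CfsgLib.Techniques.exists_conj_mem_sylow S (H := E)
      (fun x => ⟨1, Subtype.ext (by rw [pow_one]; exact hE x x.2)⟩)
    have hle : E.map (MulAut.conj g).toMonoidHom ≤ A := by
      rintro _ ⟨x, hx, rfl⟩
      refine hno _ (hg x hx) ?_
      show g * x * g⁻¹ * (g * x * g⁻¹) = 1
      rw [show g * x * g⁻¹ * (g * x * g⁻¹) = g * (x * x) * g⁻¹ by group, ← pow_two, hE x hx, mul_one,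
        mul_inv_cancel]
    have := card_le_of_le hle
    rw [card_map_of_injective (f := (MulAut.conj g).toMonoidHom) (MulAut.conj g).injective, c.card] at this
    simpa using this
  -- a field with sixteen elements
  haveI : Fintype (GaloisField 2 4) := Fintype.ofFinite _
  have hF : Fintype.card (GaloisField 2 4) = 16 := by
    rw [← Nat.card_eq_fintype_card, GaloisField.card 2 4 (by norm_num)]; norm_num
  obtain ⟨P⟩ := (inferInstance : Nonempty (Sylow 2 (Cfsg.PSU 3 (GaloisField 2 4) 4)))
  rcases Cfsg.Agent.S0516.result c.not_comm hrank S hF P with ⟨n, hn, ⟨f⟩⟩ | ⟨n, hn, -, x, y, hx, hy, hxy⟩ |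
    ⟨n, hn, -, x, y, z, hx, -, hxy, hz, hzx⟩ | hiso
  · -- dihedral
    have hcard : Nat.card (S : Subgroup G) = 2 * n := by
      rw [Nat.card_congr f.toEquiv, DihedralGroup.nat_card]
    by_cases hn4 : 4 ≤ n
    · obtain ⟨g, hg, hg2⟩ := dihedral_involutions hn4
      obtain ⟨a, ha, ha1⟩ := c.exists_ne_one
      have hval : ∀ i, ((f.symm (g i) : (S : Subgroup G)) : G) ∈ A ∧ ((f.symm (g i) : (S : Subgroup G)) : G) ≠ 1 := by
        intro i
        refine ⟨hno _ (f.symm (g i)).2 ?_, fun h => (hg2 i).2 ?_⟩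
        · have h1 : f.symm (g i) * f.symm (g i) = 1 := by rw [← map_mul, (hg2 i).1, map_one]
          exact congrArg Subtype.val h1
        · have h1 : f.symm (g i) = 1 := Subtype.ext h
          rw [← f.apply_symm_apply (g i), h1, map_one]
      let h4 : Option (Fin 4) → A := fun o => o.elim 1 fun i => ⟨_, (hval i).1⟩
      have hinj : Function.Injective h4 := by
        rintro (_ | i) (_ | j) e
        · rfl
        · exact absurd (congrArg Subtype.val e).symm (hval j).2
        · exact absurd (congrArg Subtype.val e) (hval i).2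
        · have e1 := congrArg Subtype.val e
          exact congrArg some (hg (f.symm.injective (Subtype.ext e1)))
      have := Nat.card_le_card_of_injective h4 hinj
      simp [c.card] at this
    · have hn2 : n = 2 ∨ n = 3 := by omega
      rcases hn2 with rfl | rfl
      · exact c.set.noncomm (IsPGroup.isMulCommutative_of_card_eq_prime_sq (p := 2) (by rw [hcard]; norm_num))
      · obtain ⟨k, hk⟩ := IsPGroup.iff_card.1 S.2
        have h3 : (3 : ℕ) ∣ 2 ^ k := ⟨2, by rw [← hk, hcard]⟩
        have := Nat.Prime.dvd_of_dvd_pow (by norm_num) h3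
        norm_num at this
  · -- quasi-dihedral
    have hy' : (y : G) * y = 1 := by
      have := congrArg Subtype.val (CfsgLib.Signalizer.involution_sq hy)
      simpa using this
    have h1 : y * x * y⁻¹ = x := Subtype.ext (by
      show (y : G) * x * (y : G)⁻¹ = x
      rw [(hcen y y.2 hy' x x.2).eq, mul_inv_cancel_right])
    rw [h1] at hxy
    have h8 : 4 ≤ 2 ^ (n - 1) := by
      calc 4 = 2 ^ 2 := by norm_num
        _ ≤ 2 ^ (n - 1) := Nat.pow_le_pow_right two_pos (by omega)
    have h3 : x ^ (2 ^ (n - 1) - 2) = 1 := by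
      have e : x ^ (2 ^ (n - 1) - 1) = x ^ (2 ^ (n - 1) - 2) * x := by rw [← pow_succ]; congr 1; omega
      rw [e] at hxy
      exact mul_eq_right.1 hxy.symm
    have h4 := Nat.le_of_dvd (by omega) (orderOf_dvd_of_pow_eq_one h3)
    rw [hx] at h4
    have h5 : 2 ^ (n - 1) ≤ 2 ^ n := Nat.pow_le_pow_right two_pos (by omega)
    omega
  · -- wreathed
    have hz' : (z : G) * z = 1 := by
      have := congrArg Subtype.val (CfsgLib.Signalizer.involution_sq hz)
      simpa using this
    have h1 : z * x * z⁻¹ = x := Subtype.ext (by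
      show (z : G) * x * (z : G)⁻¹ = x
      rw [(hcen z z.2 hz' x x.2).eq, mul_inv_cancel_right])
    rw [h1] at hzx
    rw [← hzx, inf_idem, zpowers_eq_bot] at hxy
    rw [hxy, orderOf_one] at hx
    have := Nat.one_lt_two_pow (show n ≠ 0 by omega)
    omega
  · -- `U₃(4)`
    obtain ⟨f⟩ := hiso
    have hF' : Fintype.card (GaloisField 2 4) = (2 ^ 2) ^ 2 := by rw [hF]; norm_num
    have hT : UType ↥(S : Subgroup G) 2 := (uType_psu (n := 2) one_le_two hF' P).of_equiv f
    have hU := (CfsgLib.InvCent.UnitarySylow.u34_sylow hF P).of_equiv f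
    have hAZ : ∀ a ∈ A, a ∈ Zs S := fun a ha => (mem_Zs hT).2 ⟨c.le ha, c.sq a ha⟩
    refine c.false_of_contains hmain c.normalizer_ne_top fun a ha ha1 => ?_
    refine (centralizer_le_centre_of_uType S hT hU (hAZ a ha) (c.orderOf_eq ha ha1)).trans ?_
    exact (Subgroup.centralizer_le hAZ).trans (centralizer_le_normalizer _)

end Case

end CfsgLib.Goldschmidt.RankTwoCase
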