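import Cfsg.Agent.Lib.Invol.Goldschmidt.RankTwoCase.Central
import Cfsg.Agent.Lib.Invol.Goldschmidt.RankTwoCase.RankLeTwo

/-!
Owner: helper18.  Slice VI of S1169: `A` is not a four-group.
-/

set_option autoImplicit false
set_option linter.unusedSectionVars false

namespace CfsgLib.Invol.Goldschmidt

open CfsgLib.Goldschmidt.RankTwoCase

universe u

/-- **`A` is not a four-group.** -/
theorem rankTwo (hmain : CfsgLib.AschCrit.Main.{u}) : RankTwo.{u} := by
  intro G _ _ S A hsmall hset hcard
  have c : Case S A := ⟨hset, hcard⟩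
  obtain ⟨u₀, hu₀, hu₀2, hu₀A⟩ := c.exists_outside hmain
  -- every coset is unbalanced
  have hbad : ∀ u ∈ (S : Subgroup G), u * u = 1 → u ∉ A → ∃ e, u⁻¹ * e ∈ A ∧ Bad A e := fun u hu hu2 huA =>
    exists_bad fun hgood => c.false_of_good hmain hu hu2 huA hgood
  refine CfsgLib.Goldschmidt.RankTwo.Setting.false (S := S) (A := A) ?_
  exact {
    no_two := c.no_index_two
    card := c.card
    sq := c.sq
    central := fun a ha s hs => c.central ha hs
    closed := c.set.closed
    trans := fun a ha b hb ha1 hb1 => c.trans ha hb ha1 hb1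
    core := fun z hz hz2 hzc => by
      by_contra hzA
      obtain ⟨e, he, hb⟩ := hbad z hz hz2 hzA
      have heS : e ∈ (S : Subgroup G) := by simpa using mul_mem hz (c.le he)
      refine c.false_of_central hsmall heS (fun h => hzA (by simpa using inv_mem (mul_mem he (inv_mem h))))
        (fun s hs => ?_) hb
      rw [show e = z * (z⁻¹ * e) by group]
      exact (hzc s hs).symm.mul_right (c.central he hs).symm
    out := ⟨u₀, hu₀, hu₀2, hu₀A⟩
    bad := fun u hu hu2 huA => by
      obtain ⟨e, he, hb⟩ := hbad u hu hu2 huA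
      exact c.badCoset_of_bad hsmall hu huA he hb }

end CfsgLib.Invol.Goldschmidt
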