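import Cfsg.Agent.Lib.Bender.Gen.Maximal
import Cfsg.Agent.Lib.Bender.Gen.Final
import Cfsg.Agent.Lib.Signalizer.Embedded

/-!
Owner: helper18.  Slice VI of S1169: a simple group with a strongly embedded subgroup is locally balanced at
a central involution (the Sylow 2-subgroup is normal in the subgroup and regular on the other cosets).
-/

set_option autoImplicit false
set_option linter.unusedSectionVars false
set_option linter.style.haveILetI false

namespace CfsgLib.Goldschmidt.RankTwoCase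

open Subgroup
open CfsgLib.Signalizer (stronglyEmbedded_iff_conj stronglyEmbedded_centralizer orderOf_conj)

universe u

variable {K : Type u} [Group K] [Finite K]

/-- Conjugates of strongly embedded subgroups are strongly embedded. -/
theorem embedded_conj {M : Subgroup K} (hM : Cfsg.IsStronglyEmbedded M) (g : K) :
    Cfsg.IsStronglyEmbedded (M.map (MulAut.conj g).toMonoidHom) := by
  obtain ⟨hne, hev, hcon⟩ := (stronglyEmbedded_iff_conj M).1 hM
  refine (stronglyEmbedded_iff_conj _).2 ⟨fun e => hne ?_, ?_, ?_⟩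
  · refine Subgroup.map_injective (f := (MulAut.conj g).toMonoidHom) (MulAut.conj g).injective ?_
    rw [e, map_top_of_surjective _ (MulAut.conj g).surjective]
  · rwa [card_map_of_injective (f := (MulAut.conj g).toMonoidHom) (MulAut.conj g).injective]
  · rintro _ ⟨t, ht, rfl⟩ ht2 h ⟨s, hs, e⟩
    simp only [MulEquiv.coe_toMonoidHom, MulAut.conj_apply] at e ht2 ⊢
    have h1 := hcon t ht ((orderOf_conj g t).symm.trans ht2) (g⁻¹ * h * g) (by
      rw [show g⁻¹ * h * g * t * (g⁻¹ * h * g)⁻¹ = g⁻¹ * (h * (g * t * g⁻¹) * h⁻¹) * g by group, ← e,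
        show g⁻¹ * (g * s * g⁻¹) * g = s by group]
      exact hs)
    exact ⟨g⁻¹ * h * g, h1, by simp only [MulEquiv.coe_toMonoidHom, MulAut.conj_apply]; group⟩

/-- **Local balance at a central involution.** -/
theorem balanced_of_embedded [IsSimpleGroup K] {H : Subgroup K} (hH : Cfsg.IsStronglyEmbedded H)
    (P : Sylow 2 K) {v : K} (hv : v ∈ (P : Subgroup K)) (hv2 : orderOf v = 2)
    (hc : ∀ p ∈ (P : Subgroup K), Commute v p) :
    Cfsg.oddCore ↥(centralizer ({v} : Set K)) = ⊥ ∧
      ∀ α : MulAut K, Odd (orderOf α) → (∀ c ∈ centralizer ({v} : Set K), α c = c) → α = 1 := by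
  haveI : Fact (Nat.Prime 2) := ⟨Nat.prime_two⟩
  -- a strongly embedded subgroup having `P` as its regular normal subgroup
  obtain ⟨U₀, hU₀H, -, -, hU₀, -, -, -⟩ :=
    CfsgLib.Bender.simple_regular CfsgLib.Bender.benderGen.{u} hH
  obtain ⟨g, hg⟩ := MulAction.exists_smul_eq K (Sylow.ofCard U₀ hU₀) P
  set M := H.map (MulAut.conj g).toMonoidHom with hMdef
  have hM : Cfsg.IsStronglyEmbedded M := embedded_conj hH g
  have hPM : (P : Subgroup K) ≤ M := by
    rw [← hg, Sylow.coe_subgroup_smul, Sylow.coe_ofCard]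
    rintro _ ⟨x, hx, rfl⟩
    exact ⟨x, hU₀H hx, rfl⟩
  obtain ⟨U, hUM, hUn, hUp, hU, htr, hfree, -⟩ :=
    CfsgLib.Bender.simple_regular CfsgLib.Bender.benderGen.{u} hM
  have hUP : U = (P : Subgroup K) := by
    have hsup : IsPGroup 2 ((P : Subgroup K) ⊔ U : Subgroup K) :=
      P.2.to_sup_of_normal_right' hUp (hPM.trans hUn)
    have h1 : (P : Subgroup K) ⊔ U = (P : Subgroup K) := P.3 hsup le_sup_left
    refine eq_of_le_of_card_ge (le_sup_right.trans h1.le) ?_
    rw [hU, P.card_eq_multiplicity]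
  subst hUP
  have hcore : ∀ d : K, (∀ b : K, b⁻¹ * d * b ∈ M) → d = 1 := by
    intro d hd
    have h : d ∈ M.normalCore := fun b => by simpa using hd b⁻¹
    rwa [(IsSimpleGroup.eq_bot_or_eq_top_of_normal _ inferInstance).resolve_right
      fun h => hM.1 (top_le_iff.1 (h ▸ M.normalCore_le)), mem_bot] at h
  have hCM : centralizer ({v} : Set K) ≤ M := stronglyEmbedded_centralizer hM (hPM hv) hv2
  have hPC : (P : Subgroup K) ≤ centralizer ({v} : Set K) := fun p hp =>
    mem_centralizer_singleton_iff.2 (hc p hp).eq.symm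
  have hcop : ∀ {u : K}, u ∈ (P : Subgroup K) → ∀ {m : ℕ}, Odd m → u ^ m = 1 → u = 1 := by
    intro u hu m hm he
    obtain ⟨i, hi⟩ := IsPGroup.iff_orderOf.1 P.2 ⟨u, hu⟩
    rw [Subgroup.orderOf_mk] at hi
    exact orderOf_eq_one_iff.1 (Nat.eq_one_of_dvd_coprimes ((Nat.coprime_two_left.2 hm).pow_left i)
      (hi ▸ dvd_rfl) (orderOf_dvd_of_pow_eq_one he))
  set C := centralizer ({v} : Set K)
  refine ⟨(eq_bot_iff_forall _).2 fun d hd => ?_, fun α hα hfix => ?_⟩
  · have hodd : Odd (orderOf (d : K)) := by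
      rw [Subgroup.orderOf_coe]
      exact (CfsgLib.ZStar.odd_card_oddCore C).of_dvd_nat (Subgroup.orderOf_dvd_natCard _ hd)
    have hdM : (d : K) ∈ M := hCM d.2
    have hdP : ∀ u ∈ (P : Subgroup K), Commute (d : K) u := by
      intro u hu
      have h1 : (d * ⟨u, hPC hu⟩ * d⁻¹ * ⟨u, hPC hu⟩⁻¹ : C) ∈ Cfsg.oddCore C := by
        rw [show d * (⟨u, hPC hu⟩ : C) * d⁻¹ * ⟨u, hPC hu⟩⁻¹ = d * (⟨u, hPC hu⟩ * d⁻¹ * ⟨u, hPC hu⟩⁻¹) by group]
        exact mul_mem hd ((inferInstance : (Cfsg.oddCore C).Normal).conj_mem _ (inv_mem hd) _)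
      have h2 : (d : K) * u * (d : K)⁻¹ * u⁻¹ ∈ (P : Subgroup K) :=
        mul_mem ((mem_normalizer_iff.1 (hUn hdM) u).1 hu) (inv_mem hu)
      have h3 : Odd (orderOf ((d : K) * u * (d : K)⁻¹ * u⁻¹)) := by
        have := (CfsgLib.ZStar.odd_card_oddCore C).of_dvd_nat (Subgroup.orderOf_dvd_natCard _ h1)
        rwa [← Subgroup.orderOf_coe] at this
      exact mul_inv_eq_iff_eq_mul.1 (mul_inv_eq_one.1 (hcop h2 h3 (pow_orderOf_eq_one _)))
    refine Subtype.ext (hcore _ fun b => ?_)
    by_cases hb : b ∈ M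
    · exact mul_mem (mul_mem (inv_mem hb) hdM) hb
    have hdb : (d : K) * b ∉ M := fun h => hb (by simpa using mul_mem (inv_mem hdM) h)
    obtain ⟨u, hu, hub⟩ := htr b ((d : K) * b) hb hdb
    have hk : ∀ k : ℕ, ((d : K) ^ k * b)⁻¹ * (u ^ k * b) ∈ M := by
      intro k
      induction k with
      | zero => simp
      | succ k ih =>
        have hcomm : Commute (u ^ k) (d : K) := ((hdP u hu).pow_right k).symm
        have e : ((d : K) ^ (k + 1) * b)⁻¹ * (u ^ (k + 1) * b) =
            (((d : K) ^ (k + 1) * b)⁻¹ * (u ^ k * ((d : K) * b))) * (((d : K) * b)⁻¹ * (u * b)) := by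
          rw [pow_succ u]; group
        rw [e]
        refine mul_mem ?_ hub
        rw [show u ^ k * ((d : K) * b) = (d : K) * (u ^ k * b) by rw [← mul_assoc, hcomm.eq, mul_assoc], pow_succ',
          show ((d : K) * (d : K) ^ k * b)⁻¹ * ((d : K) * (u ^ k * b)) = ((d : K) ^ k * b)⁻¹ * (u ^ k * b) by group]
        exact ih
    have h1 := hk (orderOf (d : K))
    rw [pow_orderOf_eq_one, one_mul] at h1
    have h2 : u = 1 := hcop hu hodd (hfree b hb _ (pow_mem hu _) h1)
    rw [h2, one_mul] at hub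
    have h3 := inv_mem hub
    rwa [mul_inv_rev, inv_inv, ← mul_assoc] at h3
  · have hfixU : ∀ u ∈ (P : Subgroup K), α u = u := fun u hu => hfix u (hPC hu)
    have hNM : normalizer ((P : Subgroup K) : Set K) ≤ M := fun x hx => by
      by_contra hxM
      have h1 := hfree x hxM v hv (by
        rw [← mul_assoc]; exact hPM ((mem_normalizer_iff''.1 hx v).1 hv))
      exact CfsgLib.Signalizer.involution_ne_one hv2 h1
    have hαM : ∀ m ∈ M, α m ∈ M := fun m hm => hNM (mem_normalizer_fintype fun p hp => by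
      rw [← hfixU p hp, ← map_inv, ← map_mul, ← map_mul,
        hfixU _ ((mem_normalizer_iff.1 (hUn hm) p).1 hp)]
      exact (mem_normalizer_iff.1 (hUn hm) p).1 hp)
    have hαpow : ∀ (k : ℕ), ∀ m ∈ M, (α ^ k) m ∈ M := by
      intro k
      induction k with
      | zero => exact fun m hm => by simpa using hm
      | succ k ih => exact fun m hm => by rw [pow_succ', MulAut.mul_apply]; exact hαM _ (ih m hm)
    have hout : ∀ g ∉ M, α g ∉ M := fun g hg h => hg (by
      obtain ⟨k, hk⟩ := hα
      have h1 := hαpow (2 * k) _ h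
      rwa [← MulAut.mul_apply, ← pow_succ, ← hk, pow_orderOf_eq_one, MulAut.one_apply] at h1)
    have hstab : ∀ g, g⁻¹ * α g ∈ M := by
      intro g
      by_cases hg : g ∈ M
      · exact mul_mem (inv_mem hg) (hαM g hg)
      obtain ⟨u, hu, hug⟩ := htr g (α g) hg (hout g hg)
      have hk : ∀ k : ℕ, ((α ^ k) g)⁻¹ * (u ^ k * g) ∈ M := by
        intro k
        induction k with
        | zero => simp
        | succ k ih =>
          have h1 := hαM _ ih
          rw [map_mul, map_inv, map_mul, map_pow, hfixU u hu] at h1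
          rw [pow_succ' α, MulAut.mul_apply, pow_succ u, mul_assoc (u ^ k),
            show (α ((α ^ k) g))⁻¹ * (u ^ k * (u * g)) =
              ((α ((α ^ k) g))⁻¹ * (u ^ k * α g)) * ((α g)⁻¹ * (u * g)) by group]
          exact mul_mem h1 hug
      have h1 := hk (orderOf α)
      rw [pow_orderOf_eq_one, MulAut.one_apply] at h1
      rw [hcop hu hα (hfree g hg _ (pow_mem hu _) h1), one_mul] at hug
      have h3 := inv_mem hug
      rwa [mul_inv_rev, inv_inv] at h3
    refine MulEquiv.ext fun h => ?_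
    refine (inv_mul_eq_one.1 (hcore (h⁻¹ * α h) fun b => ?_)).symm
    have h1 := mul_mem (hstab (h * b)) (inv_mem (hstab b))
    rw [map_mul] at h1
    convert h1 using 1
    group

end CfsgLib.Goldschmidt.RankTwoCase
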