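import Cfsg.Agent.Lib.Recog.Walter.Sections.Balance
import Cfsg.Agent.Lib.GW.Dne.PSLAut
import Cfsg.Agent.Lib.Perm.PrimeOrderCount

/-!
Owner: helper18.  Slice VI of S1169: in `PSL(2, q)`, `q ≡ 3, 5 (mod 8)`, `q ≥ 11`, more than a third of the
involutions have a product of odd order with a given involution.
-/

set_option autoImplicit false
set_option linter.unusedSectionVars false
set_option linter.style.haveILetI false

namespace CfsgLib.Goldschmidt.RankTwoCase

open Subgroup
open CfsgLib.Signalizer (involution_sq involution_inv involution_ne_one orderOf_eq_two_of orderOf_conj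
  central_involution)

universe u

variable {K : Type u} [Group K] [Finite K]

/-- The numerical data: `|C(u)| = q - ε` and `2 |u^K| = q (q + ε)`. -/
theorem exists_card_data (h : CfsgLib.Walter.IsOddType K) (h60 : Nat.card K ≠ 60) :
    ∃ q : ℕ, ∃ ε : ℤ, 11 ≤ q ∧ (ε = 1 ∨ ε = -1) ∧ ∀ u : K, orderOf u = 2 →
      (Nat.card (centralizer ({u} : Set K)) : ℤ) = q - ε ∧ 4 ∣ Nat.card (centralizer ({u} : Set K)) ∧
      2 * (Nat.card {v : K // orderOf v = 2} : ℤ) = q * (q + ε) := by
  classical
  have hdata := h.pslData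
  obtain ⟨F, iF, iT, h5, h8, ⟨e⟩⟩ := h
  have hne5 : Fintype.card F ≠ 5 := fun h' => h60 ((CfsgLib.Walter.card_eq_sixty_iff h5 h8 e).2 h')
  have hodd : Odd (Fintype.card F) := Nat.odd_iff.2 (by omega)
  have h2 : (2 : F) ≠ 0 := by
    intro h
    have hc : ringChar F = 2 := CharP.ringChar_of_prime_eq_zero Nat.prime_two (by exact_mod_cast h)
    have := FiniteField.even_card_of_char_two hc
    omega
  have key : ∀ u : K, orderOf u = 2 → ∃ ε : ℤ, (ε = 1 ∨ ε = -1) ∧ (4 : ℤ) ∣ (Fintype.card F : ℤ) - ε ∧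
      (Nat.card (centralizer ({u} : Set K)) : ℤ) = Fintype.card F - ε ∧
      2 * (Nat.card {v : K // orderOf v = 2} : ℤ) = Fintype.card F * (Fintype.card F + ε) := by
    intro u hu
    obtain ⟨ε, hε, hd, hidx, hcard⟩ := CfsgLib.GW.Dne.PSLAut.card_centralizer_involution h2
      (x := e u) (by rw [MulEquiv.orderOf_eq]; exact hu)
    have hmap : (centralizer ({u} : Set K)).map e.toMonoidHom = centralizer ({e u} : Set _) := by
      ext y
      simp only [mem_map_equiv, mem_centralizer_singleton_iff]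
      exact ⟨fun h => by simpa using congrArg e h, fun h => e.injective (by simpa using h)⟩
    have hc : Nat.card (centralizer ({u} : Set K)) = Nat.card (centralizer ({e u} : Set _)) := by
      rw [← hmap, card_map_of_injective (f := e.toMonoidHom) e.injective]
    refine ⟨ε, hε, hd, by rw [hc]; exact hcard, ?_⟩
    have hclass : Nat.card {v : K // orderOf v = 2} = (centralizer ({e u} : Set _)).index := by
      have h1 := CfsgLib.Perm.card_isConj_mul_card_centralizer u
      rw [hc, Nat.card_congr e.toEquiv, ← index_mul_card (centralizer ({e u} : Set _))] at h1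
      rw [← Nat.eq_of_mul_eq_mul_right Nat.card_pos h1]
      refine Nat.card_congr (Equiv.subtypeEquivRight fun v => ⟨fun hv => hdata.conj u v hu hv, fun hv => ?_⟩)
      obtain ⟨g, rfl⟩ := isConj_iff.1 hv
      exact (orderOf_conj g u).trans hu
    rw [hclass]
    exact hidx
  obtain ⟨a, -, ha, -, -, -⟩ := hdata.four
  obtain ⟨ε, hε, hd, hcard, hn⟩ := key a ha
  refine ⟨Fintype.card F, ε, by omega, hε, fun u hu => ?_⟩
  obtain ⟨ε', hε', hd', hcard', -⟩ := key u hu
  have hee : ε' = ε := by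
    rcases hε with rfl | rfl <;> rcases hε' with rfl | rfl <;> omega
  subst hee
  exact ⟨hcard', by rw [← hcard'] at hd; exact_mod_cast hd, hn⟩

/-- The involutions of `C(u)` other than `u` are at most half of `C(u)`. -/
theorem card_commuting_le (h : CfsgLib.Walter.IsOddType K) {u : K} (hu : orderOf u = 2)
    (h4 : 4 ∣ Nat.card (centralizer ({u} : Set K))) :
    2 * Nat.card {v : K // orderOf v = 2 ∧ Commute v u ∧ v ≠ u} ≤ Nat.card (centralizer ({u} : Set K)) := by
  classical
  haveI : Fact (Nat.Prime 2) := ⟨Nat.prime_two⟩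
  have hD := h.pslData
  set C := centralizer ({u} : Set K) with hC
  set u' : C := ⟨u, mem_centralizer_singleton_iff.2 rfl⟩
  have hu' : orderOf u' = 2 := by rw [Subgroup.orderOf_mk]; exact hu
  obtain ⟨P, hP⟩ := (CfsgLib.Signalizer.isPGroup_zpowers_involution hu').exists_le_sylow
  have huP : u' ∈ (P : Subgroup C) := hP (mem_zpowers u')
  have hP4 : 4 ≤ Nat.card (P : Subgroup C) := by
    rw [P.card_eq_multiplicity]
    obtain ⟨k, hk⟩ := h4
    have : 2 ≤ (Nat.card C).factorization 2 :=
      (Nat.prime_two.pow_dvd_iff_le_factorization Nat.card_pos.ne').1 ⟨k, by rw [hk]; norm_num⟩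
    calc 4 = 2 ^ 2 := by norm_num
      _ ≤ 2 ^ (Nat.card C).factorization 2 := Nat.pow_le_pow_right two_pos this
  obtain ⟨R, hR⟩ := (P.2.map C.subtype).exists_le_sylow
  have hR4 := CfsgLib.Walter.Sections.card_sylow hD R
  have hPR : (P : Subgroup C).map C.subtype = (R : Subgroup K) := eq_of_le_of_card_ge hR (by
    rw [hR4, card_map_of_injective C.subtype_injective]; exact hP4)
  have huR : u ∈ (R : Subgroup K) := hPR ▸ ⟨u', huP, rfl⟩
  have hcommR := CfsgLib.Walter.Sections.sylow_comm_pair hD R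
  have hsmall : ∀ p : C, (p : K) ∈ (R : Subgroup K) → 4 * Nat.card {y : C // IsConj p y} ≤ Nat.card C := by
    intro p hp
    rw [← CfsgLib.Perm.card_isConj_mul_card_centralizer p, mul_comm 4]
    refine Nat.mul_le_mul_left _ (hP4.trans (card_le_of_le fun x hx => mem_centralizer_singleton_iff.2 ?_))
    have hxR : (x : K) ∈ (R : Subgroup K) := hPR ▸ ⟨x, hx, rfl⟩
    have e : (x : K) * (p : K) = (p : K) * (x : K) :=
      congrArg Subtype.val (hcommR.is_comm.comm ⟨(x : K), hxR⟩ ⟨(p : K), hp⟩)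
    exact Subtype.ext e
  -- a third element of `R`
  obtain ⟨p, hpR, hp1, hpu, hall⟩ : ∃ p ∈ (R : Subgroup K), p ≠ 1 ∧ p ≠ u ∧
      ∀ x ∈ (R : Subgroup K), x = 1 ∨ x = u ∨ x = p ∨ x = u * p := by
    haveI := Fintype.ofFinite (R : Subgroup K)
    have hc : Fintype.card (R : Subgroup K) = 4 := by rw [← Nat.card_eq_fintype_card]; exact hR4
    have hu1 := involution_ne_one hu
    obtain ⟨p, hp⟩ : ∃ p : (R : Subgroup K), p ≠ 1 ∧ p ≠ ⟨u, huR⟩ := by
      by_contra hcon
      push Not at hcon
      have hsub : (Finset.univ : Finset (R : Subgroup K)) ⊆ {1, ⟨u, huR⟩} := fun x _ => by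
        by_cases hx : x = 1
        · exact Finset.mem_insert.2 (Or.inl hx)
        · exact Finset.mem_insert.2 (Or.inr (Finset.mem_singleton.2 (hcon x hx)))
      have := (Finset.card_le_card hsub).trans Finset.card_le_two
      rw [Finset.card_univ, hc] at this
      omega
    refine ⟨p, p.2, fun h => hp.1 (Subtype.ext h), fun h => hp.2 (Subtype.ext h), fun x hx => ?_⟩
    by_contra hne
    push Not at hne
    have e1 : (1 : (R : Subgroup K)) ≠ ⟨u, huR⟩ := fun h => hu1 (congrArg Subtype.val h).symm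
    have e2 : (1 : (R : Subgroup K)) ≠ ⟨u, huR⟩ * p := fun h =>
      hp.2 (Subtype.ext (by
        rw [eq_inv_of_mul_eq_one_right h.symm]
        exact involution_inv hu))
    have e3 : (1 : (R : Subgroup K)) ≠ ⟨x, hx⟩ := fun h => hne.1 (congrArg Subtype.val h).symm
    have e4 : (⟨u, huR⟩ : (R : Subgroup K)) ≠ ⟨u, huR⟩ * p := fun h => hp.1 (mul_eq_left.1 h.symm)
    have e5 : p ≠ ⟨u, huR⟩ * p := fun h => e1.symm (mul_eq_right.1 h.symm)
    have e6 : (⟨u, huR⟩ : (R : Subgroup K)) ≠ ⟨x, hx⟩ := fun h => hne.2.1 (congrArg Subtype.val h).symm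
    have e7 : p ≠ ⟨x, hx⟩ := fun h => hne.2.2.1 (congrArg Subtype.val h).symm
    have e8 : (⟨u, huR⟩ : (R : Subgroup K)) * p ≠ ⟨x, hx⟩ :=
      fun h => hne.2.2.2 (congrArg Subtype.val h).symm
    let t : Finset (R : Subgroup K) := {1, ⟨u, huR⟩, p, ⟨u, huR⟩ * p, ⟨x, hx⟩}
    have ht : t.card = 5 := by
      simp only [t]
      repeat rw [Finset.card_insert_of_notMem]
      · simp
      all_goals simp [e1, hp.1.symm, e2, e3, hp.2.symm, e4, e5, e6, e7, e8]
    have := t.card_le_univ
    rw [ht, hc] at this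
    omega
  have hpC : p ∈ C := mem_centralizer_singleton_iff.2
    (congrArg Subtype.val (hcommR.is_comm.comm ⟨p, hpR⟩ ⟨u, huR⟩))
  -- every involution of `C(u)` other than `u` is conjugate in `C(u)` to `p` or `u p`
  have hf : ∀ v : {v : K // orderOf v = 2 ∧ Commute v u ∧ v ≠ u},
      IsConj (⟨p, hpC⟩ : C) ⟨v, mem_centralizer_singleton_iff.2 v.2.2.1.eq⟩ ∨
      IsConj (u' * ⟨p, hpC⟩) ⟨v, mem_centralizer_singleton_iff.2 v.2.2.1.eq⟩ := by
    intro v
    set v' : C := ⟨v, mem_centralizer_singleton_iff.2 v.2.2.1.eq⟩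
    have hv' : orderOf v' = 2 := by rw [Subgroup.orderOf_mk]; exact v.2.1
    obtain ⟨Q, hQ⟩ := (CfsgLib.Signalizer.isPGroup_zpowers_involution hv').exists_le_sylow
    obtain ⟨k, hk⟩ := MulAction.exists_smul_eq C Q P
    have hmem : k * v' * k⁻¹ ∈ (P : Subgroup C) := by
      rw [← hk, Sylow.coe_subgroup_smul]
      exact ⟨v', hQ (mem_zpowers v'), rfl⟩
    have hconj : IsConj (k * v' * k⁻¹) v' := (isConj_iff.2 ⟨k, rfl⟩).symm
    rcases hall _ (hPR.le ⟨_, hmem, rfl⟩) with e | e | e | e
    · exfalso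
      have : v' = 1 := conj_eq_one_iff.1 (Subtype.ext e : k * v' * k⁻¹ = 1)
      rw [this, orderOf_one] at hv'
      omega
    · exfalso
      have h1 : k * v' * k⁻¹ = u' := Subtype.ext e
      have h2 : u' * k = k * u' := Subtype.ext (mem_centralizer_singleton_iff.1 k.2).symm
      have h3 : v' = u' := by
        rw [show v' = k⁻¹ * (k * v' * k⁻¹) * k by group, h1, mul_assoc, h2, inv_mul_cancel_left]
      exact v.2.2.2 (congrArg Subtype.val h3)
    · left
      rw [show (⟨p, hpC⟩ : C) = k * v' * k⁻¹ from Subtype.ext e.symm]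
      exact hconj
    · right
      rw [show u' * (⟨p, hpC⟩ : C) = k * v' * k⁻¹ from Subtype.ext e.symm]
      exact hconj
  let g : {v : K // orderOf v = 2 ∧ Commute v u ∧ v ≠ u} →
      {y : C // IsConj (⟨p, hpC⟩ : C) y} ⊕ {y : C // IsConj (u' * ⟨p, hpC⟩) y} := fun v =>
    if hv : IsConj (⟨p, hpC⟩ : C) ⟨v, mem_centralizer_singleton_iff.2 v.2.2.1.eq⟩ then Sum.inl ⟨_, hv⟩
    else Sum.inr ⟨_, (hf v).resolve_left hv⟩
  have hg : Function.Injective g := by
    intro v w e
    have key : ∀ v, Sum.elim (fun y => ((y.1 : C) : K)) (fun y => ((y.1 : C) : K)) (g v) = v.1 := fun v => by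
      simp only [g]; split_ifs <;> rfl
    exact Subtype.ext (by rw [← key v, ← key w, e])
  have hle := Nat.card_le_card_of_injective g hg
  rw [Nat.card_sum] at hle
  have h1 := hsmall ⟨p, hpC⟩ hpR
  have h2 := hsmall (u' * ⟨p, hpC⟩) (mul_mem huR hpR)
  omega

/-- **More than a third of the involutions are odd partners.** -/
theorem card_odd_partners (h : CfsgLib.Walter.IsOddType K) (h60 : Nat.card K ≠ 60) {u : K}
    (hu : orderOf u = 2) :
    Nat.card {v : K // orderOf v = 2} < 3 * Nat.card {v : K // orderOf v = 2 ∧ Odd (orderOf (u * v))} := by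
  classical
  obtain ⟨q, ε, hq, hε, hdata⟩ := exists_card_data h h60
  obtain ⟨hc, h4, hn⟩ := hdata u hu
  set Cu := Nat.card (centralizer ({u} : Set K)) with hCu
  let W := {w : K // orderOf w = 2 ∧ Commute w u ∧ w ≠ u}
  haveI := Fintype.ofFinite W
  have hle : 2 * Nat.card W ≤ Cu := card_commuting_le h hu h4
  have hW : ∀ w : W, 2 * Nat.card {v : K // orderOf v = 2 ∧ Commute v w.1 ∧ v ≠ w.1} ≤ Cu := fun w => by
    obtain ⟨hc', h4', -⟩ := hdata w.1 w.2.1
    have := card_commuting_le h w.2.1 h4'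
    have e : Nat.card (centralizer ({w.1} : Set K)) = Cu := by exact_mod_cast hc'.trans hc.symm
    omega
  have hex : ∀ v : {v : K // orderOf v = 2 ∧ ¬ Odd (orderOf (u * v))},
      ∃ w : W, Commute v.1 w.1 ∧ v.1 ≠ w.1 := by
    rintro ⟨v, hv, hev⟩
    obtain ⟨ht, htu, -⟩ := central_involution hu hv (Nat.not_odd_iff_even.1 hev)
    set r := u * v with hr
    set t := r ^ (orderOf r / 2) with ht'
    have htr : Commute t r := (Commute.refl r).pow_left _
    have hvr : v = u * r := by rw [hr, ← mul_assoc, involution_sq hu, one_mul]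
    have htv : Commute t v := by rw [hvr]; exact htu.mul_right htr
    have huv : Commute u v → t = r := fun hc' => by
      have h2 : r * r = 1 := by
        rw [hr, show u * v * (u * v) = u * (v * u) * v by group, ← hc'.eq, ← mul_assoc, involution_sq hu,
          one_mul, involution_sq hv]
      have hr1 : r ≠ 1 := fun e => hev (by rw [e, orderOf_one]; exact odd_one)
      rw [ht', orderOf_eq_two_of hr1 h2]
      norm_num
    refine ⟨⟨t, ht, htu, fun e => ?_⟩, htv.symm, fun e => ?_⟩
    · have h1 : Commute u v := e ▸ htv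
      have := huv h1
      rw [e, hr] at this
      exact involution_ne_one hv (mul_eq_left.1 this.symm)
    · have e' : v = t := e
      have h1 : Commute u v := by rw [e']; exact htu.symm
      have := huv h1
      rw [← e', hr] at this
      exact involution_ne_one hu (mul_eq_right.1 this.symm)
  choose f hf using hex
  let g : {v : K // orderOf v = 2 ∧ ¬ Odd (orderOf (u * v))} →
      Σ w : W, {v : K // orderOf v = 2 ∧ Commute v w.1 ∧ v ≠ w.1} := fun v =>
    ⟨f v, v.1, v.2.1, (hf v).1, (hf v).2⟩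
  have hg : Function.Injective g := fun v w e => Subtype.ext (congrArg (fun s => s.2.1) e)
  have hf' := Nat.card_le_card_of_injective g hg
  rw [Nat.card_sigma] at hf'
  have hsum : 4 * ∑ w : W, Nat.card {v : K // orderOf v = 2 ∧ Commute v w.1 ∧ v ≠ w.1} ≤ Cu * Cu := by
    calc 4 * ∑ w : W, Nat.card {v : K // orderOf v = 2 ∧ Commute v w.1 ∧ v ≠ w.1}
        = 2 * ∑ w : W, 2 * Nat.card {v : K // orderOf v = 2 ∧ Commute v w.1 ∧ v ≠ w.1} := by
          rw [← Finset.mul_sum, ← mul_assoc]; norm_num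
      _ ≤ 2 * ∑ _w : W, Cu := Nat.mul_le_mul_left _ (Finset.sum_le_sum fun w _ => hW w)
      _ = 2 * Nat.card W * Cu := by
          rw [Finset.sum_const, Finset.card_univ, smul_eq_mul, ← Nat.card_eq_fintype_card, mul_assoc]
      _ ≤ Cu * Cu := Nat.mul_le_mul_right _ hle
  have hsplit : Nat.card {v : K // orderOf v = 2} = Nat.card {v : K // orderOf v = 2 ∧ Odd (orderOf (u * v))} +
      Nat.card {v : K // orderOf v = 2 ∧ ¬ Odd (orderOf (u * v))} := by
    rw [← Nat.card_sum]
    refine Nat.card_congr ((Equiv.sumCompl fun v : {v : K // orderOf v = 2} =>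
      Odd (orderOf (u * v.1))).symm.trans (Equiv.sumCongr ?_ ?_))
    · exact Equiv.subtypeSubtypeEquivSubtypeInter (fun v : K => orderOf v = 2) (fun v => Odd (orderOf (u * v)))
    · exact Equiv.subtypeSubtypeEquivSubtypeInter (fun v : K => orderOf v = 2) (fun v => ¬ Odd (orderOf (u * v)))
  set N := Nat.card {v : K // orderOf v = 2}
  set p := Nat.card {v : K // orderOf v = 2 ∧ Odd (orderOf (u * v))}
  set r := Nat.card {v : K // orderOf v = 2 ∧ ¬ Odd (orderOf (u * v))}
  have h4r : (4 * r : ℤ) ≤ (Cu : ℤ) * Cu := by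
    exact_mod_cast (Nat.mul_le_mul_left 4 hf').trans hsum
  rw [hc] at h4r
  have hq' : (11 : ℤ) ≤ q := by exact_mod_cast hq
  have hs : (N : ℤ) = p + r := by exact_mod_cast hsplit
  have : (N : ℤ) < 3 * p := by
    rcases hε with rfl | rfl <;> nlinarith
  exact_mod_cast this

end CfsgLib.Goldschmidt.RankTwoCase
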