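import Cfsg.Agent.Lib.Invol.Goldschmidt.RankTwoCase.Section
import Cfsg.Agent.Lib.Invol.Goldschmidt.RankTwoCase.OddCount

/-!
Owner: helper18.  Slice VI of S1169: the section when the closure of `A` modulo its centre is `PSL(2, q)`,
`q ≡ 3, 5 (mod 8)`, `q ≥ 11`: then the closure is simple with Sylow 2-subgroup `A`.
-/

set_option autoImplicit false
set_option linter.unusedSectionVars false
set_option linter.style.haveILetI false

namespace CfsgLib.Goldschmidt.RankTwoCase

open Subgroup
open scoped commutatorElement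
open CfsgLib.Signalizer (orderOf_eq_two_of orderOf_conj)

universe u

variable {X : Type u} [Group X] [Finite X]

/-- The odd type of the closure. -/
structure OddSec (T : Sylow 2 X) (A : Subgroup X) : Prop where
  sec : Sec T A
  not_normal : ¬ A.Normal
  type : CfsgLib.Walter.IsOddType (↥(normalClosure (A : Set X)) ⧸ center (normalClosure (A : Set X)))
  ne_sixty : Nat.card (↥(normalClosure (A : Set X)) ⧸ center (normalClosure (A : Set X))) ≠ 60

namespace OddSec

variable {T : Sylow 2 X} {A : Subgroup X} (o : OddSec T A)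
include o

theorem sylow_eq {Q : Sylow 2 (normalClosure (A : Set X))}
    (hQ : (Q : Subgroup (normalClosure (A : Set X))) = (T : Subgroup X).subgroupOf (normalClosure (A : Set X)))
    {q : normalClosure (A : Set X)} (hq : q ∈ (Q : Subgroup (normalClosure (A : Set X)))) :
    ∃ a ∈ A.subgroupOf (normalClosure (A : Set X)), a⁻¹ * q ∈ center (normalClosure (A : Set X)) := by
  haveI := Fact.mk Nat.prime_two
  have h' := o.sec.restrict hQ
  have hπs : Function.Surjective (QuotientGroup.mk' (center (normalClosure (A : Set X)))) :=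
    QuotientGroup.mk'_surjective _
  obtain ⟨P, hP⟩ := o.sec.quot_sec o.not_normal
  set π := QuotientGroup.mk' (center (normalClosure (A : Set X)))
  have h1 : (A.subgroupOf (normalClosure (A : Set X))).map π =
      ((Q.mapSurjective hπs : Sylow 2 _) : Subgroup _) := by
    refine eq_of_le_of_card_ge ?_ ?_
    · rw [Sylow.coe_mapSurjective]; exact map_mono h'.le
    · rw [hP.card, CfsgLib.Walter.Sections.card_sylow o.type.pslData]
  obtain ⟨a, ha, e⟩ : π q ∈ (A.subgroupOf (normalClosure (A : Set X))).map π := by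
    rw [h1, Sylow.coe_mapSurjective]; exact mem_map_of_mem π hq
  exact ⟨a, ha, (QuotientGroup.eq_one_iff _).1 (show π (a⁻¹ * q) = 1 by rw [map_mul, map_inv, e, inv_mul_cancel])⟩

theorem center_eq : center (normalClosure (A : Set X)) = ⊥ := by
  haveI := Fact.mk Nat.prime_two
  obtain ⟨Q, hQ⟩ := exists_sylow_of_normal T (normalClosure (A : Set X))
  have h' := o.sec.restrict hQ
  have hab : IsMulCommutative ↥(Q : Subgroup (normalClosure (A : Set X))) := ⟨⟨fun p q => Subtype.ext (by
    obtain ⟨a, ha, hz⟩ := o.sylow_eq hQ p.2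
    show (p : normalClosure (A : Set X)) * q = q * p
    set z := a⁻¹ * (p : normalClosure (A : Set X))
    have e : (p : normalClosure (A : Set X)) = a * z := (mul_inv_cancel_left _ _).symm
    rw [e]
    exact ((h'.central a ha q q.2).mul_left (mem_center_iff.1 hz q).symm).eq)⟩⟩
  have hperf : commutator (normalClosure (A : Set X)) = ⊤ := by
    apply map_injective (normalClosure (A : Set X)).subtype_injective
    rw [map_subtype_commutator, ← MonoidHom.range_eq_map, range_subtype]
    exact o.sec.closure_perfect o.not_normal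
  by_contra hne
  obtain ⟨z, hz, hz1⟩ := (bot_or_exists_ne_one _).resolve_left hne
  have hzQ : z ∈ (Q : Subgroup (normalClosure (A : Set X))) := by
    rw [hQ]; exact (o.sec.center_spec o.not_normal).1 z hz
  obtain ⟨i, hi⟩ := IsPGroup.iff_orderOf.1 Q.2 ⟨z, hzQ⟩
  rw [Subgroup.orderOf_mk] at hi
  rcases i with _ | i
  · exact hz1 (orderOf_eq_one_iff.1 (hi.trans (pow_zero 2)))
  refine CfsgLib.Walter.Three.not_central_of_perfect hperf Q hab (a := z ^ 2 ^ i) ?_ (pow_mem hzQ _)
    (pow_mem hz _)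
  rw [orderOf_pow_of_dvd (pow_ne_zero _ two_ne_zero) (hi ▸ pow_dvd_pow 2 i.le_succ), hi, pow_succ,
    Nat.mul_div_cancel_left _ (pow_pos two_pos i)]

theorem exists_equiv :
    Nonempty (↥(normalClosure (A : Set X)) ≃* (↥(normalClosure (A : Set X)) ⧸ center (normalClosure (A : Set X)))) :=
  ⟨QuotientGroup.quotientBot.symm.trans (QuotientGroup.quotientMulEquivOfEq o.center_eq.symm)⟩

theorem inner_type : CfsgLib.Walter.IsOddType ↥(normalClosure (A : Set X)) ∧
    Nat.card ↥(normalClosure (A : Set X)) ≠ 60 := by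
  obtain ⟨f⟩ := o.exists_equiv
  obtain ⟨F, iF, iT, h5, h8, ⟨e⟩⟩ := o.type
  exact ⟨⟨F, iF, iT, h5, h8, ⟨f.trans e⟩⟩, by rw [Nat.card_congr f.toEquiv]; exact o.ne_sixty⟩

theorem exists_sylow : ∃ Q : Sylow 2 (normalClosure (A : Set X)),
    (Q : Subgroup (normalClosure (A : Set X))) = A.subgroupOf (normalClosure (A : Set X)) := by
  obtain ⟨Q, hQ⟩ := exists_sylow_of_normal T (normalClosure (A : Set X))
  refine ⟨Q, le_antisymm (fun q hq => ?_) (o.sec.restrict hQ).le⟩
  obtain ⟨a, ha, hz⟩ := o.sylow_eq hQ hq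
  rw [o.center_eq, mem_bot, inv_mul_eq_one] at hz
  exact hz ▸ ha

theorem inf_centralizer {a : X} (ha : a ∈ A) (hc : a ∈ centralizer (normalClosure (A : Set X) : Set X)) :
    a = 1 :=
  (o.sec.center_spec o.not_normal).2 a ha (subset_normalClosure ha)
    (mem_center_iff.2 fun l => Subtype.ext (mem_centralizer_iff.1 hc l l.2))

/-- A 2-element centralising `A` induces on the closure an element of `A`. -/
theorem exists_inner {x : X} (hx : IsPGroup 2 (zpowers x)) (hxA : ∀ a ∈ A, Commute a x) :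
    ∃ a ∈ A, x * a ∈ centralizer (normalClosure (A : Set X) : Set X) := by
  haveI := Fact.mk Nat.prime_two
  obtain ⟨Q, hQ⟩ := o.exists_sylow
  haveI := o.inner_type.1.isSimpleGroup
  have hD := o.inner_type.1.pslData
  set β : MulAut ↥(normalClosure (A : Set X)) := MulAut.conjNormal x with hβ
  have hβv : ∀ l : ↥(normalClosure (A : Set X)), ((β l : ↥(normalClosure (A : Set X))) : X) = x * l * x⁻¹ :=
    fun l => MulAut.conjNormal_apply x l
  obtain ⟨q, hq, e⟩ := CfsgLib.Walter.Sections.aut_inner (CfsgLib.Walter.Sections.not_comm hD) Q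
    (CfsgLib.Walter.Sections.sylow_comm_pair hD Q) β
    (by
      obtain ⟨k, hk⟩ := IsPGroup.iff_orderOf.1 hx ⟨x, mem_zpowers x⟩
      rw [Subgroup.orderOf_mk] at hk
      obtain ⟨j, -, hj⟩ := (Nat.dvd_prime_pow Nat.prime_two).1
        ((orderOf_map_dvd (MulAut.conjNormal (H := normalClosure (A : Set X))) x).trans hk.dvd)
      exact ⟨j, hj⟩)
    (fun l hl => Subtype.ext (by
      rw [hQ] at hl
      rw [hβv, ← (hxA (l : X) hl).eq, mul_inv_cancel_right]))
  rw [hQ] at hq
  refine ⟨q, hq, mem_centralizer_iff.2 fun l hl => ?_⟩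
  have h1 : x * l * x⁻¹ = (q : X) * l * (q : X)⁻¹ := by
    rw [← hβv ⟨l, hl⟩, e, MulAut.conj_apply]; rfl
  have h2 : x * (q : X) * l * (x * q)⁻¹ = l := by
    rw [show x * (q : X) * l * (x * q)⁻¹ = x * ((q : X) * l * (q : X)⁻¹) * x⁻¹ by group,
      show x * ((q : X) * l * (q : X)⁻¹) * x⁻¹ = (x * q * x⁻¹) * (x * l * x⁻¹) * (x * q * x⁻¹)⁻¹ by group, h1,
      show x * (q : X) * x⁻¹ = q by rw [← (hxA (q : X) hq).eq, mul_inv_cancel_right],
      show (q : X) * ((q : X) * l * (q : X)⁻¹) * (q : X)⁻¹ = (q * q : X) * l * (q * q : X)⁻¹ by group,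
      o.sec.sq (q : X) hq, one_mul, inv_one, mul_one]
  exact (mul_inv_eq_iff_eq_mul.1 h2).symm

/-- Squares of 2-elements centralising `A` centralise the closure. -/
theorem sq_mem {x : X} (hx : IsPGroup 2 (zpowers x)) (hxA : ∀ a ∈ A, Commute a x) :
    x * x ∈ centralizer (normalClosure (A : Set X) : Set X) := by
  obtain ⟨a, ha, hc⟩ := o.exists_inner hx hxA
  have e : x * x = (x * a) * (x * a) := by
    rw [show x * a * (x * a) = x * (a * x) * a by group, (hxA a ha).eq, ← mul_assoc, mul_assoc (x * x),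
      o.sec.sq a ha, mul_one]
  rw [e]
  exact mul_mem hc hc

/-- Transitivity on `A#` inside the closure. -/
theorem exists_conj {a b : X} (ha : a ∈ A) (hb : b ∈ A) (ha1 : a ≠ 1) (hb1 : b ≠ 1) :
    ∃ l ∈ normalClosure (A : Set X), (∀ x ∈ A, l * x * l⁻¹ ∈ A) ∧ l * a * l⁻¹ = b := by
  obtain ⟨Q, hQ⟩ := o.exists_sylow
  have hord : ∀ {c : X} (hc : c ∈ A), c ≠ 1 →
      orderOf (⟨c, subset_normalClosure hc⟩ : normalClosure (A : Set X)) = 2 := fun hc hc1 => by
    rw [Subgroup.orderOf_mk]; exact orderOf_eq_two_of hc1 (o.sec.sq _ hc)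
  obtain ⟨n, hn, e⟩ := CfsgLib.Walter.Sections.exists_conj_normalizer o.inner_type.1.pslData Q
    (v := ⟨a, subset_normalClosure ha⟩) (w := ⟨b, subset_normalClosure hb⟩)
    (by rw [hQ]; exact ha) (by rw [hQ]; exact hb) (hord ha ha1) (hord hb hb1)
  refine ⟨n, n.2, fun x hx => ?_, congrArg Subtype.val e⟩
  have h1 := (mem_normalizer_iff.1 hn ⟨x, subset_normalClosure hx⟩).1 (by rw [hQ]; exact hx)
  rw [hQ] at h1
  exact h1

theorem isConj_of_involution {i j : normalClosure (A : Set X)} (hi : orderOf i = 2) (hj : orderOf j = 2) :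
    IsConj i j := o.inner_type.1.pslData.conj i j hi hj

theorem odd_partners {i : normalClosure (A : Set X)} (hi : orderOf i = 2) :
    Nat.card {j : normalClosure (A : Set X) // orderOf j = 2} <
      3 * Nat.card {j : normalClosure (A : Set X) // orderOf j = 2 ∧ Odd (orderOf (i * j))} :=
  card_odd_partners o.inner_type.1 o.inner_type.2 hi

end OddSec

end CfsgLib.Goldschmidt.RankTwoCase
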