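import Cfsg.Agent.Lib.Invol.Goldschmidt.RankTwoCase.Good
import Cfsg.Agent.Lib.Invol.Goldschmidt.RankTwoCase.OddSection
import Cfsg.Agent.Lib.Invol.Goldschmidt.RankTwoCase.Embedded
import Cfsg.Agent.Lib.LocalEvenB.StronglyClosedComplement
import Cfsg.Agent.Lib.GW.DGroup.Main

/-!
Owner: helper18.  Slice VI of S1169: in an unbalanced coset the section of `C(e)` has a component
`PSL(2, q)` with Sylow 2-subgroup `A`; this gives the hypothesis `BadCoset` of G1.
-/

set_option autoImplicit false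
set_option linter.unusedSectionVars false
set_option linter.style.haveILetI false

namespace CfsgLib.Goldschmidt.RankTwoCase

open Subgroup
open CfsgLib.Signalizer (involution_sq involution_inv involution_ne_one orderOf_eq_two_of orderOf_conj)
open CfsgLib.FTDep (coreCent coreCent_le coreCent_norm coreCent_odd)
open CfsgLib.Invol.Goldschmidt (Smaller GoldType)

universe u

variable {G : Type u} [Group G] [Finite G]

/-- `C(e)` modulo its odd core. -/
abbrev Bar (e : G) : Type u :=
  ↥(centralizer ({e} : Set G)) ⧸ Cfsg.oddCore ↥(centralizer ({e} : Set G))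

/-- The projection. -/
abbrev proj (e : G) : ↥(centralizer ({e} : Set G)) →* Bar e := QuotientGroup.mk' _

/-- The image of `A`. -/
abbrev barA (A : Subgroup G) (e : G) : Subgroup (Bar e) :=
  (A.subgroupOf (centralizer ({e} : Set G))).map (proj e)

/-- An element of `O(C(a)) ∩ C(e)` outside `O(C(e))`. -/
def Bad (A : Subgroup G) (e : G) : Prop :=
  ∃ a ∈ A, a ≠ 1 ∧ ∃ x ∈ coreCent ({a} : Set G), Commute x e ∧ x ∉ coreCent ({e} : Set G)

theorem mem_coreCent_of_proj {e : G} {x : ↥(centralizer ({e} : Set G))} (h : proj e x = 1) :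
    (x : G) ∈ coreCent ({e} : Set G) := ⟨x, (QuotientGroup.eq_one_iff x).1 h, rfl⟩

theorem proj_surjective (e : G) : Function.Surjective (proj e) := QuotientGroup.mk'_surjective _

theorem exists_bad {A : Subgroup G} {u : G} (h : ¬ Good A u) : ∃ e, u⁻¹ * e ∈ A ∧ Bad A e := by
  simp only [Good, not_forall] at h
  obtain ⟨a, ha, ha1, e, he, x, hx, hxe, hxn⟩ := h
  exact ⟨e, he, a, ha, ha1, x, hx, hxe, hxn⟩

namespace Case

variable {S : Sylow 2 G} {A : Subgroup G} (c : Case S A) {e : G}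
include c

theorem le_cent (he : e ∈ (S : Subgroup G)) : A ≤ centralizer ({e} : Set G) := fun _ ha =>
  mem_centralizer_singleton_iff.2 (c.central ha he).eq

theorem eq_of_proj (he : e ∈ (S : Subgroup G)) {a b : G} (ha : a ∈ A) (hb : b ∈ A)
    (h : proj e ⟨a, c.le_cent he ha⟩ = proj e ⟨b, c.le_cent he hb⟩) : a = b := by
  have h1 : (⟨a, c.le_cent he ha⟩⁻¹ * ⟨b, c.le_cent he hb⟩ : centralizer ({e} : Set G)) ∈
      Cfsg.oddCore ↥(centralizer ({e} : Set G)) := (QuotientGroup.eq_one_iff _).1 (by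
    show proj e _ = 1
    rw [map_mul, map_inv, h, inv_mul_cancel])
  have h2 := (CfsgLib.ZStar.odd_card_oddCore _).of_dvd_nat (Subgroup.orderOf_dvd_natCard _ h1)
  rw [← Subgroup.orderOf_coe] at h2
  exact inv_mul_eq_one.1 (CfsgLib.ZStar.eq_one_of_odd_of_sq h2
    (by rw [pow_two]; exact c.sq _ (mul_mem (inv_mem ha) hb)))

/-- A Sylow subgroup of `C(e)` containing `A` lies in a conjugate of `S` by an element of `N(A)`. -/
theorem exists_conj_sylow (he : e ∈ (S : Subgroup G)) (T : Sylow 2 (centralizer ({e} : Set G)))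
    (hT : A.subgroupOf (centralizer ({e} : Set G)) ≤ (T : Subgroup (centralizer ({e} : Set G)))) :
    ∃ g ∈ normalizer (A : Set G), ∀ t ∈ (T : Subgroup (centralizer ({e} : Set G))),
      g * (t : G) * g⁻¹ ∈ (S : Subgroup G) := by
  haveI := Fact.mk Nat.prime_two
  obtain ⟨g, hg⟩ := CfsgLib.Techniques.exists_conj_mem_sylow S (T.2.map (centralizer ({e} : Set G)).subtype)
  refine ⟨g, mem_normalizer_fintype fun a ha => c.conj_mem ha
    (hg a ⟨⟨a, c.le_cent he ha⟩, hT (show (⟨a, c.le_cent he ha⟩ : centralizer ({e} : Set G)) ∈ _ from ha), rfl⟩),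
    fun t ht => hg t ⟨t, ht, rfl⟩⟩

theorem sec_bar (he : e ∈ (S : Subgroup G)) (T : Sylow 2 (centralizer ({e} : Set G)))
    (hT : A.subgroupOf (centralizer ({e} : Set G)) ≤ (T : Subgroup (centralizer ({e} : Set G)))) :
    Sec (T.mapSurjective (proj_surjective e)) (barA A e) := by
  haveI := Fact.mk Nat.prime_two
  obtain ⟨g, hgN, hg⟩ := c.exists_conj_sylow he T hT
  refine ⟨CfsgLib.Core.pPrimeCore_quotient_pPrimeCore 2 _, ?_, ?_, ?_, ?_⟩
  · rw [← c.card, ← Nat.card_congr (subgroupOfEquivOfLe (c.le_cent he)).toEquiv]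
    refine (Nat.card_congr (Equiv.ofBijective
      (fun x : A.subgroupOf (centralizer ({e} : Set G)) => (⟨proj e x.1, mem_map_of_mem _ x.2⟩ : ↥(barA A e)))
      ⟨?_, ?_⟩)).symm
    · intro x y h
      exact Subtype.ext (Subtype.ext (c.eq_of_proj he x.2 y.2 (congrArg Subtype.val h)))
    · rintro ⟨_, x, hx, rfl⟩
      exact ⟨⟨x, hx⟩, rfl⟩
  · rintro _ ⟨x, hx, rfl⟩
    rw [← map_mul, show x * x = 1 from Subtype.ext (c.sq _ hx), map_one]
  · rintro _ ⟨x, hx, rfl⟩ t ht
    rw [Sylow.coe_mapSurjective] at ht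
    obtain ⟨t, ht, rfl⟩ := ht
    refine Commute.map (Subtype.ext ?_) _
    have h := (c.central ((mem_normalizer_iff.1 hgN (x : G)).1 hx) (hg t ht)).map (MulAut.conj g⁻¹).toMonoidHom
    simpa [mul_assoc] using h.eq
  · have hcl : Cfsg.IsStronglyClosed (A.subgroupOf (centralizer ({e} : Set G)))
        (T : Subgroup (centralizer ({e} : Set G))) := by
      refine ⟨hT, fun x hx k hk => ?_⟩
      have h1 : g * ((k : G) * x * (k : G)⁻¹) * g⁻¹ ∈ (S : Subgroup G) := hg _ hk
      have h2 := c.conj_mem (show (x : G) ∈ A from hx) (g := g * k) (by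
        rwa [show g * (k : G) * x * (g * k)⁻¹ = g * ((k : G) * x * (k : G)⁻¹) * g⁻¹ by group])
      rw [show g * (k : G) * x * (g * k)⁻¹ = g * ((k : G) * x * (k : G)⁻¹) * g⁻¹ by group] at h2
      exact (mem_normalizer_iff.1 hgN _).2 h2
    rw [Sylow.coe_mapSurjective]
    exact CfsgLib.LocalEvenB.map_isStronglyClosed (proj e) (proj_surjective e)
      (by rw [QuotientGroup.ker_mk']; exact Nat.coprime_two_right.2 (CfsgLib.ZStar.odd_card_oddCore _)) T hcl

/-- **An unbalanced coset has a component `PSL(2, q)`, `q ≥ 11`.** -/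
theorem odd_of_bad (hsmall : Smaller G) (he : e ∈ (S : Subgroup G)) (heA : e ∉ A) (hbad : Bad A e)
    (T : Sylow 2 (centralizer ({e} : Set G)))
    (hT : A.subgroupOf (centralizer ({e} : Set G)) ≤ (T : Subgroup (centralizer ({e} : Set G)))) :
    OddSec (T.mapSurjective (proj_surjective e)) (barA A e) := by
  haveI := Fact.mk Nat.prime_two
  haveI := c.set.simple
  have h := c.sec_bar he T hT
  obtain ⟨a, ha, ha1, x, hx, hxe, hxn⟩ := hbad
  set a' : centralizer ({e} : Set G) := ⟨a, c.le_cent he ha⟩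
  have ha' : proj e a' ∈ barA A e := mem_map_of_mem _ (show a' ∈ A.subgroupOf _ from ha)
  have ha2 : orderOf a' = 2 := by rw [Subgroup.orderOf_mk]; exact c.orderOf_eq ha ha1
  set D := ((coreCent ({a} : Set G)).subgroupOf (centralizer ({e} : Set G))).map (proj e) with hD
  have hDodd : Odd (Nat.card D) := (coreCent_odd ({a} : Set G)).of_dvd_nat (by
    refine (card_map_dvd _ _).trans ?_
    rw [← card_map_of_injective (centralizer ({e} : Set G)).subtype_injective, subgroupOf_map_subtype]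
    exact card_dvd_of_le inf_le_left)
  have hmap := CfsgLib.GW.DGroup.map_centralizer_singleton ha2
  have hDC : D ≤ centralizer ({proj e a'} : Set (Bar e)) := by
    rw [← hmap]
    exact map_mono fun y hy => mem_centralizer_singleton_iff.2 (Subtype.ext
      (mem_centralizer_singleton_iff.1 (coreCent_le _ hy)))
  have hCD : centralizer ({proj e a'} : Set (Bar e)) ≤ normalizer (D : Set (Bar e)) := by
    rw [← hmap]
    rintro _ ⟨k, hk, rfl⟩
    refine mem_normalizer_fintype ?_
    rintro _ ⟨y, hy, rfl⟩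
    refine ⟨k * y * k⁻¹, ?_, by rw [map_mul, map_mul, map_inv]⟩
    exact (mem_normalizer_iff.1 (coreCent_norm _
      (mem_centralizer_singleton_iff.2 (congrArg Subtype.val (mem_centralizer_singleton_iff.1 hk)))) _).1 hy
  have hne : D ≠ ⊥ := fun hb => hxn (by
    have h1 : proj e ⟨x, mem_centralizer_singleton_iff.2 hxe.eq⟩ ∈ D :=
      mem_map_of_mem _ (show (⟨x, mem_centralizer_singleton_iff.2 hxe.eq⟩ : centralizer ({e} : Set G)) ∈
        (coreCent ({a} : Set G)).subgroupOf _ from hx)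
    rw [hb, mem_bot] at h1
    exact mem_coreCent_of_proj h1)
  have hnn : ¬ (barA A e).Normal := fun hn => hne (h.eq_bot_of_normal hn ha' hDodd hDC hCD)
  -- the section is a smaller simple group of Gold type
  haveI := h.quot_simple hnn
  set L := normalClosure (barA A e : Set (Bar e)) with hL
  have hK := h.quot_not_comm hnn
  obtain ⟨P, hP⟩ := h.quot_sec hnn
  set v : ↥L ⧸ center L := QuotientGroup.mk ⟨proj e a', subset_normalClosure ha'⟩ with hv
  have hvA : v ∈ ((barA A e).subgroupOf L).map (QuotientGroup.mk' (center L)) :=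
    ⟨⟨proj e a', subset_normalClosure ha'⟩, ha', rfl⟩
  have hv1 : v ≠ 1 := fun h1 => by
    have h2 := (h.center_spec hnn).2 _ ha' (subset_normalClosure ha') ((QuotientGroup.eq_one_iff _).1 h1)
    exact ha1 (c.eq_of_proj he ha (one_mem A) (h2.trans (map_one (proj e)).symm))
  have hv2 : orderOf v = 2 := orderOf_eq_two_of hv1 (hP.sq v hvA)
  have hnb : ¬ (Cfsg.oddCore ↥(centralizer ({v} : Set (↥L ⧸ center L))) = ⊥ ∧
      ∀ α : MulAut (↥L ⧸ center L), Odd (orderOf α) →
        (∀ q ∈ centralizer ({v} : Set (↥L ⧸ center L)), α q = q) → α = 1) :=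
    fun hb => hne (h.eq_bot_of_locBal hnn ha' hb.1 hb.2 hDodd hDC hCD)
  have hcard : Nat.card (↥L ⧸ center L) < Nat.card G := by
    refine ((Nat.card_le_card_of_surjective _ (QuotientGroup.mk'_surjective (center L))).trans
      ((card_le_card_group L).trans (Nat.card_le_card_of_surjective _ (proj_surjective e)))).trans_lt ?_
    refine lt_of_le_of_ne (card_le_card_group _) fun hc => ?_
    have htop := (card_eq_iff_eq_top _).1 hc
    have hec : e ∈ center G := mem_center_iff.2 fun g =>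
      mem_centralizer_singleton_iff.1 (htop.symm ▸ mem_top g : g ∈ centralizer ({e} : Set G))
    rcases (inferInstance : (center G).Normal).eq_bot_or_eq_top with hz | hz
    · rw [hz, mem_bot] at hec
      exact heA (hec ▸ one_mem A)
    · exact c.not_comm ⟨⟨fun p q => mem_center_iff.1 (hz ▸ mem_top q) p⟩⟩
  have hgold : GoldType (↥L ⧸ center L) := hsmall (↥L ⧸ center L) hK hcard P
    (((barA A e).subgroupOf L).map (QuotientGroup.mk' (center L)))
    (fun hb => hv1 (by rw [hb, mem_bot] at hvA; exact hvA))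
    ⟨⟨fun p q => Subtype.ext (hP.comm p.2 q.2).eq⟩⟩ hP.closed
  rcases hgold with hW | ⟨-, H, hH⟩
  swap
  · exact absurd (balanced_of_embedded hH P (hP.le hvA) hv2 (fun p hp => hP.central v hvA p hp)) hnb
  rcases hW with hW | hW | hW
  · exact absurd ⟨hW.locBal.core v hv2, hW.locBal.fix v hv2⟩ hnb
  · exact ⟨h, hnn, hW, fun h60 => hnb ⟨(hW.locBal_sixty h60).core v hv2, (hW.locBal_sixty h60).fix v hv2⟩⟩
  · exact absurd ⟨hW.locBal.core v hv2, hW.locBal.fix v hv2⟩ hnb

/-- A Sylow subgroup of `C(e)` containing `C(e) ∩ S`. -/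
theorem exists_sylow_cent (he : e ∈ (S : Subgroup G)) :
    ∃ T : Sylow 2 (centralizer ({e} : Set G)), A.subgroupOf (centralizer ({e} : Set G)) ≤ (T : Subgroup _) ∧
      (S : Subgroup G).subgroupOf (centralizer ({e} : Set G)) ≤ (T : Subgroup _) := by
  obtain ⟨T, hT⟩ := (show IsPGroup 2 ((S : Subgroup G).subgroupOf (centralizer ({e} : Set G))) from
    S.2.comap_of_injective _ (centralizer ({e} : Set G)).subtype_injective).exists_le_sylow
  exact ⟨T, fun x hx => hT (c.le hx), hT⟩

/-- Lifting the action on `A` from the closure. -/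
theorem exists_rep (he : e ∈ (S : Subgroup G)) {T : Sylow 2 (Bar e)} (o : OddSec T (barA A e)) {a b : G}
    (ha : a ∈ A) (hb : b ∈ A) (ha1 : a ≠ 1) (hb1 : b ≠ 1) :
    ∃ r ∈ normalizer (A : Set G), Commute r e ∧ r * a * r⁻¹ = b := by
  haveI := Fact.mk Nat.prime_two
  have hmem : ∀ {x : G} (hx : x ∈ A), proj e ⟨x, c.le_cent he hx⟩ ∈ barA A e :=
    fun hx => mem_map_of_mem _ (show (⟨_, c.le_cent he hx⟩ : centralizer ({e} : Set G)) ∈ A.subgroupOf _ from hx)
  have hne : ∀ {x : G} (hx : x ∈ A), x ≠ 1 → proj e ⟨x, c.le_cent he hx⟩ ≠ 1 := fun hx hx1 h =>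
    hx1 (c.eq_of_proj he hx (one_mem A) (h.trans (map_one (proj e)).symm))
  obtain ⟨l, -, hlA, hl⟩ := o.exists_conj (hmem ha) (hmem hb) (hne ha ha1) (hne hb hb1)
  obtain ⟨k, rfl⟩ := proj_surjective e l
  have hnO : A ≤ normalizer (coreCent ({e} : Set G) : Set G) := fun x hx => coreCent_norm _ (c.le_cent he hx)
  set R := A ⊔ coreCent ({e} : Set G) with hR
  have hQR : A.map (MulAut.conj (k : G)).toMonoidHom ≤ R := by
    rintro _ ⟨x, hx, rfl⟩
    obtain ⟨y, hy, hye⟩ := hlA _ (hmem hx)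
    have hy' : (y : G) ∈ A := hy
    show (k : G) * x * (k : G)⁻¹ ∈ R
    have h1 : proj e (y⁻¹ * (k * ⟨x, c.le_cent he hx⟩ * k⁻¹)) = 1 := by
      rw [map_mul, map_inv, hye, map_mul, map_mul, map_inv, inv_mul_cancel]
    have h2 := mul_mem (mem_sup_left hy' : (y : G) ∈ R) (mem_sup_right (mem_coreCent_of_proj h1) : _ ∈ R)
    convert h2 using 1
    simp [mul_assoc]
  obtain ⟨R', hR', hAR', hR'R, m, hm, hmQ⟩ := CfsgLib.Goldschmidt.RankTwo.exists_conj_le (S.2.to_le c.le)
    (le_sup_left : A ≤ R) ((S.2.to_le c.le).map _) hQR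
  have hR'A : ∀ y ∈ R', y ∈ A := fun y hy => by
    obtain ⟨p, hp, q, hq, rfl⟩ := (Core.mem_sup_iff_mul hnO).1 (hR'R hy)
    have hq' : q ∈ R' := by simpa using mul_mem (inv_mem (hAR' hp)) hy
    obtain ⟨i, hi⟩ := IsPGroup.iff_orderOf.1 hR' ⟨q, hq'⟩
    rw [Subgroup.orderOf_mk] at hi
    have hq1 : q = 1 := orderOf_eq_one_iff.1 (Nat.eq_one_of_dvd_coprimes
      ((Nat.coprime_two_left.2 ((coreCent_odd ({e} : Set G)).of_dvd_nat
        (Subgroup.orderOf_dvd_natCard _ hq))).pow_left i) (hi ▸ dvd_rfl) dvd_rfl)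
    rw [hq1, mul_one]
    exact hp
  set r := m * (k : G) with hr
  have hrA : ∀ x ∈ A, r * x * r⁻¹ ∈ A := fun x hx => hR'A _ (by
    have := hmQ _ ⟨x, hx, rfl⟩
    simp only [MulEquiv.coe_toMonoidHom, MulAut.conj_apply] at this
    rwa [hr, show m * (k : G) * x * (m * k)⁻¹ = m * ((k : G) * x * (k : G)⁻¹) * m⁻¹ by group])
  obtain ⟨p, hp, q, hq, rfl⟩ := (Core.mem_sup_iff_mul hnO).1 hm
  have hqe : Commute q e := mem_centralizer_singleton_iff.1 (coreCent_le _ hq)
  have hre : Commute r e := ((c.central hp he).mul_left hqe).mul_left (mem_centralizer_singleton_iff.1 k.2)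
  refine ⟨r, mem_normalizer_fintype hrA, hre, c.eq_of_proj he (hrA a ha) hb ?_⟩
  set p' : centralizer ({e} : Set G) := ⟨p, c.le_cent he hp⟩
  set q' : centralizer ({e} : Set G) := ⟨q, coreCent_le _ hq⟩
  have hq1 : proj e q' = 1 := (QuotientGroup.eq_one_iff _).2 (by
    obtain ⟨w, hw, e'⟩ := hq
    rwa [show q' = w from Subtype.ext e'.symm])
  have e1 : (⟨r * a * r⁻¹, c.le_cent he (hrA a ha)⟩ : centralizer ({e} : Set G)) =
      p' * q' * (k * ⟨a, c.le_cent he ha⟩ * k⁻¹) * q'⁻¹ * p'⁻¹ := Subtype.ext (by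
    show r * a * r⁻¹ = p * q * ((k : G) * a * (k : G)⁻¹) * q⁻¹ * p⁻¹
    rw [hr]; group)
  rw [e1, map_mul, map_mul, map_mul, map_mul, map_inv, map_inv, hq1, mul_one, inv_one, mul_one, map_mul, map_mul,
    map_inv, hl]
  have hcomm : Commute (proj e p') (proj e ⟨b, c.le_cent he hb⟩) :=
    Commute.map (show Commute p' ⟨b, c.le_cent he hb⟩ from Subtype.ext (c.comm hp hb).eq) _
  rw [hcomm.eq, mul_inv_cancel_right]

/-- **An unbalanced coset is bad in the sense of G1.** -/
theorem badCoset_of_bad (hsmall : Smaller G) {u : G} (hu : u ∈ (S : Subgroup G)) (huA : u ∉ A)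
    (hue : u⁻¹ * e ∈ A) (hbad : Bad A e) : CfsgLib.Goldschmidt.RankTwo.BadCoset S A u := by
  haveI := Fact.mk Nat.prime_two
  have he : e ∈ (S : Subgroup G) := by simpa using mul_mem hu (c.le hue)
  have heA : e ∉ A := fun h => huA (by simpa using inv_mem (mul_mem hue (inv_mem h)))
  obtain ⟨T, hT, hTS⟩ := c.exists_sylow_cent he
  have o := c.odd_of_bad hsmall he heA hbad T hT
  let C := centralizer ({e} : Set G)
  set L := normalClosure (barA A e : Set (Bar e)) with hL
  refine ⟨fun P hPS hPu => ?_, e, hue, fun a ha b hb ha1 hb1 => c.exists_rep he o ha hb ha1 hb1, ?_⟩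
  · -- squares
    set R := ((centralizer (L : Set (Bar e))).comap (proj e)).map C.subtype with hR
    have hle : Subgroup.closure ((fun x => x * x) '' (P : Set G)) ≤ R := by
      rw [Subgroup.closure_le]
      rintro _ ⟨x, hx, rfl⟩
      have hxe : Commute x e := by
        rw [show e = u * (u⁻¹ * e) by group]
        exact (hPu x hx).mul_right (c.central hue (hPS hx)).symm
      set x' : C := ⟨x, mem_centralizer_singleton_iff.2 hxe.eq⟩
      refine ⟨x' * x', ?_, rfl⟩
      show proj e (x' * x') ∈ centralizer (L : Set (Bar e))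
      rw [map_mul]
      refine o.sq_mem ?_ ?_
      · exact IsPGroup.to_le ((S.2.comap_of_injective C.subtype C.subtype_injective).map (proj e))
          (zpowers_le.2 ⟨x', hPS hx, rfl⟩)
      · rintro _ ⟨y, hy, rfl⟩
        exact Commute.map (show Commute y x' from Subtype.ext (c.central hy (hPS hx)).eq) _
    refine (eq_bot_iff_forall _).2 fun a ⟨ha, haA⟩ => ?_
    obtain ⟨y, hy, rfl⟩ := hle ha
    exact c.eq_of_proj he haA (one_mem A)
      ((o.inf_centralizer ⟨y, haA, rfl⟩ hy).trans (map_one (proj e)).symm)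
  · -- counting
    intro z hz hz1 d hd hde
    set Dset := {d : G // IsConj z d ∧ Commute d e}
    have hz2 : orderOf z = 2 := c.orderOf_eq hz hz1
    have hmemA : ∀ {x : G} (hx : x ∈ A), proj e ⟨x, c.le_cent he hx⟩ ∈ barA A e :=
      fun hx => mem_map_of_mem _ (show (⟨_, c.le_cent he hx⟩ : C) ∈ A.subgroupOf C from hx)
    -- `z^G ∩ C(e)` is one class of `C(e)`
    have hclass : ∀ d : Dset, ∃ k : C, (k : G) * z * (k : G)⁻¹ = d.1 := by
      rintro ⟨d, hd, hde⟩
      have hd2 : orderOf d = 2 := by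
        obtain ⟨g, rfl⟩ := isConj_iff.1 hd
        exact (orderOf_conj g z).trans hz2
      set d' : C := ⟨d, mem_centralizer_singleton_iff.2 hde.eq⟩
      obtain ⟨Q, hQ⟩ := (CfsgLib.Signalizer.isPGroup_zpowers_involution
        (show orderOf d' = 2 by rw [Subgroup.orderOf_mk]; exact hd2)).exists_le_sylow
      obtain ⟨k, hk⟩ := MulAction.exists_smul_eq C Q T
      have hmem : k * d' * k⁻¹ ∈ (T : Subgroup C) := by
        rw [← hk, Sylow.coe_subgroup_smul]
        exact ⟨d', hQ (mem_zpowers d'), rfl⟩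
      obtain ⟨g, hgN, hg⟩ := c.exists_conj_sylow he T hT
      have h1 := hg _ hmem
      obtain ⟨g0, hg0⟩ := isConj_iff.1 hd
      have h2 := c.conj_mem hz (g := g * k * g0) (by
        convert h1 using 1
        show g * (k : G) * g0 * z * (g * k * g0)⁻¹ = g * ((k : G) * d * (k : G)⁻¹) * g⁻¹
        rw [← hg0]; group)
      have h3 : (k : G) * d * (k : G)⁻¹ ∈ A := (mem_normalizer_iff.1 hgN _).2 (by
        convert h2 using 1
        rw [← hg0]; group)
      obtain ⟨r, -, hre, hr⟩ := c.exists_rep he o hz h3 hz1 fun h => by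
        rw [conj_eq_one_iff.1 h, orderOf_one] at hd2; omega
      refine ⟨k⁻¹ * ⟨r, mem_centralizer_singleton_iff.2 hre.eq⟩, ?_⟩
      show (k : G)⁻¹ * r * z * ((k : G)⁻¹ * r)⁻¹ = d
      rw [show (k : G)⁻¹ * r * z * ((k : G)⁻¹ * r)⁻¹ = (k : G)⁻¹ * (r * z * r⁻¹) * k by group, hr]
      group
    set z' : C := ⟨z, c.le_cent he hz⟩
    have hzL : proj e z' ∈ L := subset_normalClosure (hmemA hz)
    have hzne : proj e z' ≠ 1 := fun h =>
      hz1 (c.eq_of_proj he hz (one_mem A) (h.trans (map_one (proj e)).symm))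
    have himg : ∀ d : Dset, ∃ i : {i : L // orderOf i = 2},
        (i.1 : Bar e) = proj e ⟨d.1, mem_centralizer_singleton_iff.2 d.2.2.eq⟩ := by
      intro d
      obtain ⟨k, hk⟩ := hclass d
      have e1 : proj e ⟨d.1, mem_centralizer_singleton_iff.2 d.2.2.eq⟩ = proj e k * proj e z' * (proj e k)⁻¹ := by
        rw [← map_inv, ← map_mul, ← map_mul]
        exact congrArg _ (Subtype.ext hk.symm)
      refine ⟨⟨⟨_, (normalClosure_normal (s := (barA A e : Set (Bar e)))).conj_mem _ hzL (proj e k)⟩, ?_⟩, e1.symm⟩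
      rw [Subgroup.orderOf_mk, orderOf_conj]
      exact orderOf_eq_two_of hzne
        (by rw [← map_mul, show z' * z' = 1 from Subtype.ext (c.sq z hz), map_one])
    choose f hf using himg
    have hzi : orderOf (⟨proj e z', hzL⟩ : L) = 2 := by
      rw [Subgroup.orderOf_mk]
      exact orderOf_eq_two_of hzne
        (by rw [← map_mul, show z' * z' = 1 from Subtype.ext (c.sq z hz), map_one])
    -- the fibres are permuted transitively
    have hfib : ∀ i, Nat.card {d : Dset // f d = i} =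
        Nat.card {d : Dset // f d = ⟨⟨proj e z', hzL⟩, hzi⟩} := by
      intro i
      obtain ⟨l, hl⟩ := isConj_iff.1 (o.isConj_of_involution hzi i.2)
      obtain ⟨k, hk⟩ := proj_surjective e (l : Bar e)
      have hke : Commute (k : G) e := mem_centralizer_singleton_iff.1 k.2
      have hDk : ∀ (m : G), Commute m e → ∀ d : Dset, IsConj z (m * d.1 * m⁻¹) ∧ Commute (m * d.1 * m⁻¹) e :=
        fun m hm d => ⟨d.2.1.trans (isConj_iff.2 ⟨m, rfl⟩), (hm.mul_left d.2.2).mul_left hm.inv_left⟩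
      let act : Dset ≃ Dset :=
        { toFun := fun d => ⟨(k : G) * d.1 * (k : G)⁻¹, hDk _ hke d⟩
          invFun := fun d => ⟨(k : G)⁻¹ * d.1 * (k : G)⁻¹⁻¹, hDk _ hke.inv_left d⟩
          left_inv := fun d => Subtype.ext (by show (k : G)⁻¹ * ((k : G) * d.1 * (k : G)⁻¹) * (k : G)⁻¹⁻¹ = d.1; group)
          right_inv := fun d => Subtype.ext (by show (k : G) * ((k : G)⁻¹ * d.1 * (k : G)⁻¹⁻¹) * (k : G)⁻¹ = d.1; group) }
      have hact : ∀ d, ((f (act d)).1 : Bar e) = (l : Bar e) * ((f d).1 : Bar e) * (l : Bar e)⁻¹ := fun d => by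
        rw [hf, hf, ← hk, ← map_inv, ← map_mul, ← map_mul]
        rfl
      refine (Nat.card_congr (Equiv.subtypeEquiv act fun d => ?_)).symm
      constructor
      · intro h
        refine Subtype.ext (Subtype.ext ?_)
        rw [hact, h, ← hl]; rfl
      · intro h
        refine Subtype.ext (Subtype.ext ?_)
        have h1 := hact d
        rw [h, ← hl] at h1
        exact (mul_left_cancel (mul_right_cancel h1)).symm
    have hall := CfsgLib.Goldschmidt.RankTwo.card_all f hfib
    set d0 : Dset := ⟨d, hd, hde⟩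
    have hodd := CfsgLib.Goldschmidt.RankTwo.card_fibres f hfib fun i => Odd (orderOf ((f d0).1 * i.1))
    have hiff : ∀ d' : Dset, Odd (orderOf ((f d0).1 * (f d').1)) ↔ Odd (orderOf (d0.1 * d'.1)) := by
      intro d'
      set y : C := ⟨d0.1, mem_centralizer_singleton_iff.2 d0.2.2.eq⟩ *
        ⟨d'.1, mem_centralizer_singleton_iff.2 d'.2.2.eq⟩
      have e1 : orderOf ((f d0).1 * (f d').1) = orderOf (proj e y) := by
        rw [← Subgroup.orderOf_coe, Subgroup.coe_mul, hf, hf, ← map_mul]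
      have e2 : orderOf (d0.1 * d'.1) = orderOf y := (Subgroup.orderOf_coe y)
      rw [e1, e2]
      refine ⟨fun h => ?_, fun h => h.of_dvd_nat (orderOf_map_dvd _ _)⟩
      have h1 : y ^ orderOf (proj e y) ∈ Cfsg.oddCore C := (QuotientGroup.eq_one_iff _).1 (by
        show proj e _ = 1
        rw [map_pow, pow_orderOf_eq_one])
      refine (h.mul (CfsgLib.ZStar.odd_card_oddCore C)).of_dvd_nat (orderOf_dvd_of_pow_eq_one ?_)
      rw [pow_mul]
      exact orderOf_dvd_iff_pow_eq_one.1 (Subgroup.orderOf_dvd_natCard _ h1)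
    have hcount := o.odd_partners (f d0).2
    have e3 : Nat.card {i : {i : L // orderOf i = 2} // Odd (orderOf ((f d0).1 * i.1))} =
        Nat.card {j : L // orderOf j = 2 ∧ Odd (orderOf ((f d0).1 * j))} :=
      Nat.card_congr (Equiv.subtypeSubtypeEquivSubtypeInter (fun j : L => orderOf j = 2)
        (fun j => Odd (orderOf ((f d0).1 * j))))
    have e4 : Nat.card {d' : Dset // Odd (orderOf ((f d0).1 * (f d').1))} =
        Nat.card {d' : G // IsConj z d' ∧ Commute d' e ∧ Odd (orderOf (d * d'))} :=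
      Nat.card_congr ((Equiv.subtypeEquivRight hiff).trans
        ((Equiv.subtypeSubtypeEquivSubtypeInter (fun d' : G => IsConj z d' ∧ Commute d' e)
          (fun d' => Odd (orderOf (d * d')))).trans (Equiv.subtypeEquivRight fun x => and_assoc)))
    rw [← e4, hodd, e3]
    show Nat.card Dset < _
    rw [hall, mul_left_comm]
    refine Nat.mul_lt_mul_of_pos_left hcount ?_
    haveI : Nonempty {d' : Dset // f d' = f d0} := ⟨⟨d0, rfl⟩⟩
    rw [← hfib (f d0)]
    exact Nat.card_pos

end Case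

end CfsgLib.Goldschmidt.RankTwoCase
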