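import Cfsg.Agent.Lib.Invol.Goldschmidt.Spine
import Cfsg.Agent.Lib.Invol.Goldschmidt.RankTwo.Count
import Cfsg.Agent.Lib.Invol.AschCrit.Dep.StronglyClosed
import Cfsg.Agent.Lib.TwoFusion.DihedralProduct.Functor
import Cfsg.Agent.Lib.Classical.AbelianSylowTwo

/-!
Owner: helper18.  Slice VI of S1169 (`|A| = 4`): transitivity, `C(a) = O(C(a)) C(A)` and the closing lemma.
-/

set_option autoImplicit false
set_option linter.unusedSectionVars false
set_option linter.style.haveILetI false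

namespace CfsgLib.Goldschmidt.RankTwoCase

open Subgroup
open CfsgLib.Signalizer (involution_sq involution_inv involution_ne_one orderOf_eq_two_of orderOf_conj)
open CfsgLib.FTDep (coreCent coreCent_le coreCent_norm coreCent_odd mem_coreCent_of)

universe u

variable {G : Type u} [Group G] [Finite G]

/-- A minimal counterexample with a four-group. -/
structure Case (S : Sylow 2 G) (A : Subgroup G) : Prop where
  set : CfsgLib.Invol.Goldschmidt.Setting S A
  card : Nat.card A = 4

namespace Case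

variable {S : Sylow 2 G} {A : Subgroup G} (c : Case S A)
include c

theorem le : A ≤ (S : Subgroup G) := c.set.closed.1

theorem sq : ∀ a ∈ A, a * a = 1 := fun a ha => (pow_two a).symm.trans (c.set.elem.2 a ha)

theorem inv_eq {a : G} (ha : a ∈ A) : a⁻¹ = a := inv_eq_of_mul_eq_one_right (c.sq a ha)

theorem comm {a b : G} (ha : a ∈ A) (hb : b ∈ A) : Commute a b :=
  congrArg Subtype.val (c.set.elem.1.is_comm.comm ⟨a, ha⟩ ⟨b, hb⟩)

theorem orderOf_eq {a : G} (ha : a ∈ A) (ha1 : a ≠ 1) : orderOf a = 2 := orderOf_eq_two_of ha1 (c.sq a ha)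

theorem conj_mem {a : G} (ha : a ∈ A) {g : G} (h : g * a * g⁻¹ ∈ (S : Subgroup G)) : g * a * g⁻¹ ∈ A :=
  c.set.closed.2 a ha g h

theorem exists_three {a : G} (ha : a ∈ A) (ha1 : a ≠ 1) : ∃ b ∈ A, b ≠ 1 ∧ b ≠ a ∧ a * b ≠ 1 ∧
    a * b ≠ a ∧ a * b ≠ b ∧ ∀ x ∈ A, x = 1 ∨ x = a ∨ x = b ∨ x = a * b := by
  classical
  haveI := Fintype.ofFinite A
  have hA : Fintype.card A = 4 := by rw [← Nat.card_eq_fintype_card]; exact c.card
  obtain ⟨b, hb⟩ : ∃ b : A, b ≠ 1 ∧ b ≠ ⟨a, ha⟩ := by
    by_contra h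
    push Not at h
    have hsub : (Finset.univ : Finset A) ⊆ {1, ⟨a, ha⟩} := fun x _ => by
      by_cases hx : x = 1
      · exact Finset.mem_insert.2 (Or.inl hx)
      · exact Finset.mem_insert.2 (Or.inr (Finset.mem_singleton.2 (h x hx)))
    have := (Finset.card_le_card hsub).trans Finset.card_le_two
    rw [Finset.card_univ, hA] at this
    omega
  have hb1 : (b : G) ≠ 1 := fun h => hb.1 (Subtype.ext h)
  have h1 : a * (b : G) ≠ 1 := fun h => hb.2 (Subtype.ext (by
    rw [eq_inv_of_mul_eq_one_right h, c.inv_eq ha]))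
  refine ⟨b, b.2, hb1, fun h => hb.2 (Subtype.ext h), h1, fun h => hb1 (mul_eq_left.1 h),
    fun h => ha1 (mul_eq_right.1 h), fun x hx => ?_⟩
  by_contra hne
  push Not at hne
  let t : Finset A := {1, ⟨a, ha⟩, b, ⟨a * b, mul_mem ha b.2⟩, ⟨x, hx⟩}
  have ht : t.card = 5 := by
    have e1 : (1 : A) ≠ ⟨a, ha⟩ := fun h => ha1 (congrArg Subtype.val h).symm
    have e2 : (1 : A) ≠ ⟨a * b, mul_mem ha b.2⟩ := fun h => h1 (congrArg Subtype.val h).symm
    have e3 : (1 : A) ≠ ⟨x, hx⟩ := fun h => hne.1 (congrArg Subtype.val h).symm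
    have e4 : (⟨a, ha⟩ : A) ≠ ⟨a * b, mul_mem ha b.2⟩ := fun h =>
      hb1 (mul_eq_left.1 (congrArg Subtype.val h).symm)
    have e5 : b ≠ ⟨a * b, mul_mem ha b.2⟩ := fun h => ha1 (mul_eq_right.1 (congrArg Subtype.val h).symm)
    have e6 : (⟨a, ha⟩ : A) ≠ ⟨x, hx⟩ := fun h => hne.2.1 (congrArg Subtype.val h).symm
    have e7 : b ≠ ⟨x, hx⟩ := fun h => hne.2.2.1 (congrArg Subtype.val h).symm
    have e8 : (⟨a * b, mul_mem ha b.2⟩ : A) ≠ ⟨x, hx⟩ := fun h => hne.2.2.2 (congrArg Subtype.val h).symm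
    simp only [t]
    repeat rw [Finset.card_insert_of_notMem]
    · simp
    all_goals simp [e1, hb.1.symm, e2, e3, hb.2.symm, e4, e5, e6, e7, e8]
  have := t.card_le_univ
  rw [ht, hA] at this
  omega

theorem exists_ne_one : ∃ a ∈ A, a ≠ 1 := by
  refine (bot_or_exists_ne_one A).resolve_left fun h => ?_
  have := c.card
  rw [h, Subgroup.card_bot] at this
  omega

theorem not_comm : ¬ IsMulCommutative G := fun h =>
  c.set.noncomm ⟨⟨fun x y => Subtype.ext (h.is_comm.comm x y)⟩⟩

theorem no_index_two : ¬ ∃ N : Subgroup G, N.Normal ∧ N.index = 2 := by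
  haveI := c.set.simple
  rintro ⟨N, hN, hi⟩
  rcases hN.eq_bot_or_eq_top with rfl | rfl
  · rw [Subgroup.index_bot] at hi
    have h := card_subgroup_dvd_card A
    rw [c.card, hi] at h
    omega
  · simp at hi

theorem oddCore_eq : Cfsg.oddCore G = ⊥ := by
  haveI := c.set.simple
  obtain ⟨a, ha, ha1⟩ := c.exists_ne_one
  exact CfsgLib.Classical.AbSylow.oddCore_eq_bot_simple (c.orderOf_eq ha ha1)

theorem normalizer_ne_top : normalizer (A : Set G) ≠ ⊤ := by
  haveI := c.set.simple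
  intro h
  haveI : A.Normal := normalizer_eq_top_iff.1 h
  rcases (inferInstance : A.Normal).eq_bot_or_eq_top with h' | h'
  · have := c.card
    rw [h', Subgroup.card_bot] at this
    omega
  · refine c.not_comm ⟨⟨fun x y => (c.comm (h' ▸ mem_top x) (h' ▸ mem_top y)).eq⟩⟩

/-- An element of `N(A)` fixing a point of `A#` centralises `A`. -/
theorem fix {n : G} (hn : n ∈ normalizer (A : Set G)) {a : G} (ha : a ∈ A) (ha1 : a ≠ 1)
    (hfix : n * a * n⁻¹ = a) : n ∈ centralizer (A : Set G) := by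
  classical
  haveI := Fintype.ofFinite A
  obtain ⟨b, hb, hb1, hba, hab1, haba, habb, hall⟩ := c.exists_three ha ha1
  by_contra hnC
  have himg : ∀ x ∈ A, n * x * n⁻¹ ∈ A := fun x hx => (mem_normalizer_iff.1 hn x).1 hx
  have hnb : n * b * n⁻¹ = a * b := by
    rcases hall _ (himg b hb) with h | h | h | h
    · exact absurd (conj_eq_one_iff.1 h) hb1
    · exact absurd (mul_left_cancel (mul_right_cancel (h.trans hfix.symm))) hba
    · refine absurd (mem_centralizer_iff.2 fun x hx => ?_) hnC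
      rcases hall x hx with rfl | rfl | rfl | rfl
      · simp
      · exact (mul_inv_eq_iff_eq_mul.1 hfix).symm
      · exact (mul_inv_eq_iff_eq_mul.1 h).symm
      · refine (mul_inv_eq_iff_eq_mul.1 ?_).symm
        rw [show n * (a * b) * n⁻¹ = (n * a * n⁻¹) * (n * b * n⁻¹) by group, hfix, h]
    · exact h
  have hnab : n * (a * b) * n⁻¹ = b := by
    rw [show n * (a * b) * n⁻¹ = (n * a * n⁻¹) * (n * b * n⁻¹) by group, hfix, hnb, ← mul_assoc, c.sq a ha,
      one_mul]
  set N := normalizer (A : Set G) with hN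
  let φ : N →* Equiv.Perm A :=
    { toFun := fun g => (A.normalizerMonoidHom g).toEquiv
      map_one' := by ext x; simp
      map_mul' := fun g h => by ext x; simp }
  have hφ : ∀ (g : N) (x : A), ((φ g x : A) : G) = g * x * (g : G)⁻¹ := fun g x => rfl
  have hswap : φ ⟨n, hn⟩ = Equiv.swap ⟨b, hb⟩ ⟨a * b, mul_mem ha hb⟩ := by
    refine Equiv.ext fun x => Subtype.ext ?_
    rw [hφ]
    obtain ⟨x, hx⟩ := x
    show n * x * n⁻¹ = _
    rcases hall x hx with rfl | rfl | rfl | rfl
    · rw [Equiv.swap_apply_of_ne_of_ne (fun e => hb1 (congrArg Subtype.val e).symm)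
        (fun e => hab1 (congrArg Subtype.val e).symm)]
      simp
    · rw [Equiv.swap_apply_of_ne_of_ne (fun e => hba (congrArg Subtype.val e).symm)
        (fun e => haba (congrArg Subtype.val e).symm)]
      exact hfix
    · rw [Equiv.swap_apply_left]; exact hnb
    · rw [Equiv.swap_apply_right]; exact hnab
  set χ : N →* ℤˣ := Equiv.Perm.sign.comp φ with hχ
  have hsurj : Function.Surjective χ := fun e => by
    rcases Int.units_eq_one_or e with rfl | rfl
    · exact ⟨1, map_one χ⟩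
    · refine ⟨⟨n, hn⟩, ?_⟩
      rw [hχ, MonoidHom.comp_apply, hswap, Equiv.Perm.sign_swap]
      exact fun e => habb (congrArg Subtype.val e).symm
  have hidx : χ.ker.index = 2 := by
    rw [Subgroup.index_ker, MonoidHom.range_eq_top.2 hsurj, Subgroup.card_top]
    simp [Nat.card_eq_fintype_card]
  refine c.set.no_two (χ.ker.map N.subtype) ?_ (map_subtype_le _) ?_
  · intro g hg
    refine ⟨⟨g, centralizer_le_normalizer _ hg⟩, ?_, rfl⟩
    have : φ ⟨g, centralizer_le_normalizer _ hg⟩ = 1 := Equiv.ext fun x => Subtype.ext (by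
      rw [hφ]
      show g * x * g⁻¹ = x
      rw [← mem_centralizer_iff.1 hg x x.2, mul_inv_cancel_right])
    show χ _ = 1
    rw [hχ, MonoidHom.comp_apply, this, map_one]
  · rw [relIndex, ← comap_subtype, comap_map_eq_self_of_injective N.subtype_injective]
    exact hidx

theorem trans {a b : G} (ha : a ∈ A) (hb : b ∈ A) (ha1 : a ≠ 1) (hb1 : b ≠ 1) :
    ∃ n ∈ normalizer (A : Set G), n * a * n⁻¹ = b := by
  obtain ⟨d, hd, hd1, hda, had1, hada, hadd, hall⟩ := c.exists_three ha ha1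
  obtain ⟨n, hn, hne⟩ : ∃ n ∈ normalizer (A : Set G), n * a * n⁻¹ ≠ a := by
    by_contra h
    push Not at h
    rcases c.set.irred (zpowers a) (zpowers_le.2 ha) (fun g hg => by
      show (zpowers a).map (MulAut.conj g).toMonoidHom = zpowers a
      rw [MonoidHom.map_zpowers]; exact congrArg zpowers (h g hg)) with h' | h'
    · exact ha1 (zpowers_eq_bot.1 h')
    · have h4 := c.card
      rw [← h', Nat.card_zpowers, c.orderOf_eq ha ha1] at h4
      omega
  have himg : ∀ x ∈ A, n * x * n⁻¹ ∈ A := fun x hx => (mem_normalizer_iff.1 hn x).1 hx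
  have hnof : ∀ x ∈ A, x ≠ 1 → n * x * n⁻¹ ≠ x := fun x hx hx1 h => hne (by
    rw [← mem_centralizer_iff.1 (c.fix hn hx hx1 h) a ha, mul_inv_cancel_right])
  -- the second power reaches the third involution
  have h2 : n * n * a * (n * n)⁻¹ ≠ a ∧ n * n * a * (n * n)⁻¹ ≠ n * a * n⁻¹ := by
    have e : n * n * a * (n * n)⁻¹ = n * (n * a * n⁻¹) * n⁻¹ := by group
    refine ⟨fun h => ?_, fun h => hnof _ (himg a ha) (fun h' => ha1 (conj_eq_one_iff.1 h')) (e.symm.trans h)⟩
    rw [e] at h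
    set a' := n * a * n⁻¹ with ha'
    have h1 : a * a' ≠ 1 := fun h' => hne (show a' = a by rw [eq_inv_of_mul_eq_one_right h', c.inv_eq ha])
    refine hnof (a * a') (mul_mem ha (himg a ha)) h1 ?_
    rw [show n * (a * a') * n⁻¹ = (n * a * n⁻¹) * (n * a' * n⁻¹) by group, h]
    exact (c.comm (himg a ha) ha).eq
  by_cases hba : b = a
  · exact ⟨1, one_mem _, by simp [hba]⟩
  by_cases hbn : b = n * a * n⁻¹
  · exact ⟨n, hn, hbn.symm⟩
  refine ⟨n * n, mul_mem hn hn, ?_⟩
  have h3 : n * n * a * (n * n)⁻¹ ∈ A := (mem_normalizer_iff.1 (mul_mem hn hn) a).1 ha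
  have h31 : n * n * a * (n * n)⁻¹ ≠ 1 := fun h => ha1 (conj_eq_one_iff.1 h)
  have h11 : n * a * n⁻¹ ≠ 1 := fun h => ha1 (conj_eq_one_iff.1 h)
  rcases hall b hb with h | h | h | h
  · exact absurd h hb1
  · exact absurd h hba
  · rcases hall _ h3 with e | e | e | e
    · exact absurd e h31
    · exact absurd e h2.1
    · rw [e, h]
    · rcases hall _ (himg a ha) with e' | e' | e' | e'
      · exact absurd e' h11
      · exact absurd e' hne
      · exact absurd (h.trans e'.symm) hbn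
      · exact absurd (e.trans e'.symm) h2.2
  · rcases hall _ h3 with e | e | e | e
    · exact absurd e h31
    · exact absurd e h2.1
    · rcases hall _ (himg a ha) with e' | e' | e' | e'
      · exact absurd e' h11
      · exact absurd e' hne
      · exact absurd (e.trans e'.symm) h2.2
      · exact absurd (h.trans e'.symm) hbn
    · rw [e, h]

theorem le_centralizer : (S : Subgroup G) ≤ centralizer (A : Set G) := by
  intro s hs
  haveI : Fact (Nat.Prime 2) := ⟨Nat.prime_two⟩
  have hn := c.set.sylow_le hs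
  by_contra hsC
  -- `s` moves all three involutions, but has two-power order
  obtain ⟨a, ha, ha1⟩ := c.exists_ne_one
  have himg : ∀ x ∈ A, s * x * s⁻¹ ∈ A := fun x hx => (mem_normalizer_iff.1 hn x).1 hx
  have hnof : ∀ x ∈ A, x ≠ 1 → s * x * s⁻¹ ≠ x := fun x hx hx1 h => hsC (c.fix hn hx hx1 h)
  obtain ⟨b, hb, hb1, hba, hab1, haba, habb, hall⟩ := c.exists_three ha ha1
  -- some power of `s` fixes an involution
  have hcyc : ∀ x ∈ A, x ≠ 1 → (s * s) * (s * x * s⁻¹) * (s * s)⁻¹ = x := by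
    intro x hx hx1
    set y := s * x * s⁻¹ with hy
    set z := s * y * s⁻¹ with hz
    have hy1 : y ≠ 1 := fun h => hx1 (conj_eq_one_iff.1 h)
    have hz1 : z ≠ 1 := fun h => hy1 (conj_eq_one_iff.1 h)
    have hyx : y ≠ x := hnof x hx hx1
    have hzy : z ≠ y := hnof y (himg x hx) hy1
    have hzx : z ≠ x := fun h => by
      have h1 : x * y ≠ 1 := fun e => hyx (by rw [eq_inv_of_mul_eq_one_right e, c.inv_eq hx])
      refine hnof (x * y) (mul_mem hx (himg x hx)) h1 ?_
      rw [show s * (x * y) * s⁻¹ = (s * x * s⁻¹) * (s * y * s⁻¹) by group, ← hy, ← hz, h]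
      exact (c.comm (himg x hx) hx).eq
    obtain ⟨p, hp, hp1, hpx, -, -, -, hall'⟩ := c.exists_three hx hx1
    have hz2 : s * z * s⁻¹ ∈ A := himg z (himg y (himg x hx))
    have hz21 : s * z * s⁻¹ ≠ 1 := fun h => hz1 (conj_eq_one_iff.1 h)
    have h3 : s * z * s⁻¹ ≠ z := hnof z (himg y (himg x hx)) hz1
    have h4 : s * z * s⁻¹ ≠ y := fun h => hzx (mul_left_cancel (mul_right_cancel (h.trans hy)))
    rw [show s * s * y * (s * s)⁻¹ = s * z * s⁻¹ by rw [hz]; group]
    rcases hall' _ (himg x hx) with e | e | e | e <;> rcases hall' _ (himg y (himg x hx)) with e' | e' | e' | e' <;>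
      rcases hall' _ hz2 with e'' | e'' | e'' | e'' <;>
      first
        | exact e''
        | exact absurd e hy1
        | exact absurd e hyx
        | exact absurd e' hz1
        | exact absurd e' hzx
        | exact absurd (e'.trans e.symm) hzy
        | exact absurd e'' hz21
        | exact absurd (e''.trans e'.symm) h3
        | exact absurd (e''.trans e.symm) h4
  obtain ⟨k, hk⟩ := IsPGroup.iff_orderOf.1 S.2 ⟨s, hs⟩
  rw [Subgroup.orderOf_mk] at hk
  have h3 : (s ^ 3) * a * (s ^ 3)⁻¹ = a := by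
    rw [pow_three, show s * (s * s) * a * (s * (s * s))⁻¹ = (s * s) * (s * a * s⁻¹) * (s * s)⁻¹ by group]
    exact hcyc a ha ha1
  have hc3 : s ^ 3 ∈ centralizer (A : Set G) := c.fix (pow_mem hn 3) ha ha1 h3
  have h1 : s ∈ centralizer (A : Set G) := by
    obtain ⟨i, hi⟩ := exists_pow_eq_self_of_coprime (show Nat.Coprime 3 (orderOf s) by
      rw [hk]; exact (Nat.Coprime.pow_left k (by norm_num)).symm)
    rw [← hi]
    exact pow_mem hc3 i
  exact hsC h1

theorem central {a s : G} (ha : a ∈ A) (hs : s ∈ (S : Subgroup G)) : Commute a s :=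
  mem_centralizer_iff.1 (c.le_centralizer hs) a ha

/-- The core of `C(a)`. -/
theorem exists_core_mul {a g : G} (ha : a ∈ A) (ha1 : a ≠ 1) (hg : Commute g a) :
    ∃ o ∈ coreCent ({a} : Set G), ∃ d ∈ centralizer (A : Set G), g = o * d := by
  haveI : Fact (Nat.Prime 2) := ⟨Nat.prime_two⟩
  obtain ⟨b, hb, hb1, hba, hab1, haba, habb, hall⟩ := c.exists_three ha ha1
  set K := centralizer ({a} : Set G) with hK
  have hSK : (S : Subgroup G) ≤ K := fun s hs => mem_centralizer_singleton_iff.2 (c.central ha hs).eq.symm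
  have hbK : b ∈ K := mem_centralizer_singleton_iff.2 (c.comm hb ha).eq
  have hb2 : orderOf (⟨b, hbK⟩ : K) = 2 := by rw [Subgroup.orderOf_mk]; exact c.orderOf_eq hb hb1
  have hiso : ∀ x : K, x * ⟨b, hbK⟩ * x⁻¹ ∈ (S.subtype hSK : Sylow 2 K) → x * ⟨b, hbK⟩ * x⁻¹ = ⟨b, hbK⟩ := by
    intro x hx
    have hx' : (x : G) * b * (x : G)⁻¹ ∈ (S : Subgroup G) := hx
    have hxb := c.conj_mem hb hx'
    have hxa : (x : G) * a * (x : G)⁻¹ = a :=
      mul_inv_eq_iff_eq_mul.2 (mem_centralizer_singleton_iff.1 x.2)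
    have hxN : (x : G) ∈ normalizer (A : Set G) := mem_normalizer_fintype fun y hy => by
      rcases hall y hy with rfl | rfl | rfl | rfl
      · simpa using one_mem A
      · rw [hxa]; exact ha
      · exact hxb
      · rw [show (x : G) * (a * b) * (x : G)⁻¹ = ((x : G) * a * (x : G)⁻¹) * ((x : G) * b * (x : G)⁻¹) by
          group, hxa]
        exact mul_mem ha hxb
    refine Subtype.ext ?_
    show (x : G) * b * (x : G)⁻¹ = b
    rw [← mem_centralizer_iff.1 (c.fix hxN ha ha1 hxa) b hb, mul_inv_cancel_right]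
  have hgK : g ∈ K := mem_centralizer_singleton_iff.2 hg.eq
  have hcomm := CfsgLib.ZStar.mem_oddCore_of_sylow (S.subtype hSK) hb2 (show b ∈ (S : Subgroup G) from c.le hb)
    hiso ⟨g, hgK⟩
  have hb2' := c.orderOf_eq hb hb1
  have hmem : b * (g * b * g⁻¹) ∈ coreCent ({a} : Set G) := by
    refine ⟨_, hcomm, ?_⟩
    show b * g * b⁻¹ * g⁻¹ = _
    rw [c.inv_eq hb]; simp only [mul_assoc]
  obtain ⟨o, ho, hob⟩ := CfsgLib.Goldschmidt.RankTwo.conj_of_mul_mem (coreCent_odd _) hb2'
    ((orderOf_conj g b).trans hb2') hmem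
  refine ⟨o, ho, o⁻¹ * g, mem_centralizer_iff.2 fun y hy => ?_, (mul_inv_cancel_left o g).symm⟩
  have hoa : Commute o a := mem_centralizer_singleton_iff.1 (coreCent_le _ ho)
  have h1 : Commute (o⁻¹ * g) a := hoa.inv_left.mul_left hg
  have h2 : Commute (o⁻¹ * g) b := by
    have e : o⁻¹ * g * b * (o⁻¹ * g)⁻¹ = b := by
      rw [show o⁻¹ * g * b * (o⁻¹ * g)⁻¹ = o⁻¹ * (g * b * g⁻¹) * o by group, ← hob]
      group
    exact mul_inv_eq_iff_eq_mul.1 e
  rcases hall y hy with rfl | rfl | rfl | rfl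
  exacts [by simp, h1.symm.eq, h2.symm.eq, (h1.mul_right h2).symm.eq]

theorem centralizer_le {a : G} (ha : a ∈ A) : centralizer (A : Set G) ≤ centralizer ({a} : Set G) :=
  Subgroup.centralizer_le (Set.singleton_subset_iff.2 ha)

theorem comm_mem_core {a x b : G} (ha : a ∈ A) (ha1 : a ≠ 1) (hx : Commute x a) (hb : b ∈ A) :
    x * b * x⁻¹ * b⁻¹ ∈ coreCent ({a} : Set G) := by
  obtain ⟨o, ho, d, hd, rfl⟩ := c.exists_core_mul ha ha1 hx
  rw [show o * d * b * (o * d)⁻¹ * b⁻¹ = o * (d * b * d⁻¹) * o⁻¹ * b⁻¹ by group,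
    show d * b * d⁻¹ = b by rw [← mem_centralizer_iff.1 hd b hb, mul_inv_cancel_right],
    show o * b * o⁻¹ * b⁻¹ = o * (b * o⁻¹ * b⁻¹) by group]
  exact mul_mem ho ((mem_normalizer_iff.1 (coreCent_norm _
    (mem_centralizer_singleton_iff.2 (c.comm hb ha).eq)) _).1 (inv_mem ho))

/-- `O(C(A))` lies in every `O(C(a))`. -/
theorem coreA_le {a : G} (ha : a ∈ A) (ha1 : a ≠ 1) : coreCent (A : Set G) ≤ coreCent ({a} : Set G) := by
  set K := centralizer ({a} : Set G) with hK
  set O := coreCent ({a} : Set G) with hO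
  set OA := coreCent (A : Set G) with hOA
  have hOAn : OA ≤ normalizer (O : Set G) := fun x hx => coreCent_norm _ (c.centralizer_le ha (coreCent_le _ hx))
  have hn : K ≤ normalizer ((OA ⊔ O : Subgroup G) : Set G) := by
    intro g hg
    obtain ⟨o, ho, d, hd, rfl⟩ := c.exists_core_mul ha ha1 (mem_centralizer_singleton_iff.1 hg)
    refine mul_mem (le_normalizer (mem_sup_right ho)) (mem_normalizer_fintype fun x hx => ?_)
    obtain ⟨p, hp, q, hq, rfl⟩ := (Core.mem_sup_iff_mul hOAn).1 hx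
    rw [show d * (p * q) * d⁻¹ = (d * p * d⁻¹) * (d * q * d⁻¹) by group]
    exact mul_mem (mem_sup_left ((mem_normalizer_iff.1 (coreCent_norm _ hd) p).1 hp))
      (mem_sup_right ((mem_normalizer_iff.1 (coreCent_norm _ (c.centralizer_le ha hd)) q).1 hq))
  intro x hx
  exact mem_coreCent_of (c.centralizer_le ha (coreCent_le _ hx))
    (sup_le ((coreCent_le _).trans (c.centralizer_le ha)) (coreCent_le _)) hn
    (((coreCent_odd (A : Set G)).mul (coreCent_odd _)).of_dvd_nat (CfsgLib.Core.card_sup_dvd OA O hOAn))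
    (mem_sup_left hx)

/-- `O(C(a)) ∩ C(b) = O(C(A))`. -/
theorem meet {a b : G} (ha : a ∈ A) (ha1 : a ≠ 1) (hb : b ∈ A) (hb1 : b ≠ 1) (hab : a ≠ b) :
    coreCent ({a} : Set G) ⊓ centralizer ({b} : Set G) = coreCent (A : Set G) := by
  obtain ⟨d, hd, hd1, hda, had1, hada, hadd, hall⟩ := c.exists_three ha ha1
  have hC : coreCent ({a} : Set G) ⊓ centralizer ({b} : Set G) ≤ centralizer (A : Set G) := by
    rintro x ⟨hx, hxb⟩
    have h1 : Commute x a := mem_centralizer_singleton_iff.1 (coreCent_le _ hx)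
    have h2 : Commute x b := mem_centralizer_singleton_iff.1 hxb
    refine mem_centralizer_iff.2 fun y hy => ?_
    rcases hall b hb with e | e | e | e
    · exact absurd e hb1
    · exact absurd e.symm hab
    · subst e
      rcases hall y hy with rfl | rfl | rfl | rfl
      exacts [by simp, h1.symm.eq, h2.symm.eq, (h1.mul_right h2).symm.eq]
    · subst e
      have h3 : Commute x d := by
        have := h1.mul_right h2
        rwa [← mul_assoc, c.sq a ha, one_mul] at this
      rcases hall y hy with rfl | rfl | rfl | rfl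
      exacts [by simp, h1.symm.eq, h3.symm.eq, h2.symm.eq]
  refine le_antisymm (fun x hx => mem_coreCent_of (hC hx) hC ?_
    ((coreCent_odd _).of_dvd_nat (card_dvd_of_le inf_le_left)) hx)
    (le_inf (c.coreA_le ha ha1) ((coreCent_le _).trans (c.centralizer_le hb)))
  intro g hg
  refine mem_normalizer_fintype fun y hy => ⟨(mem_normalizer_iff.1 (coreCent_norm _ (c.centralizer_le ha hg)) y).1 hy.1,
    (centralizer ({b} : Set G)).mul_mem ((centralizer ({b} : Set G)).mul_mem (c.centralizer_le hb hg) hy.2)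
    ((centralizer ({b} : Set G)).inv_mem (c.centralizer_le hb hg))⟩

theorem core_inf_le {a b : G} (ha : a ∈ A) (ha1 : a ≠ 1) (hb : b ∈ A) (hb1 : b ≠ 1) :
    coreCent ({a} : Set G) ⊓ centralizer ({b} : Set G) ≤ coreCent ({b} : Set G) := by
  by_cases hab : a = b
  · subst hab; exact inf_le_left
  · rw [c.meet ha ha1 hb hb1 hab]; exact c.coreA_le hb hb1

/-- No proper subgroup contains all `C(a)`, `a ∈ A#`. -/
theorem false_of_contains (hmain : CfsgLib.AschCrit.Main.{u}) {M : Subgroup G} (hM : M ≠ ⊤)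
    (h : ∀ a ∈ A, a ≠ 1 → centralizer ({a} : Set G) ≤ M) : False := by
  haveI := c.set.simple
  obtain ⟨a, ha, ha1⟩ := c.exists_ne_one
  obtain ⟨H, hH⟩ := CfsgLib.AschCrit.stronglyEmbedded_of_stronglyClosed hmain S A
    (fun e => ha1 (by simpa [e] using ha)) c.set.closed (fun e => hM (top_le_iff.1 (e ▸ iSup_le fun t =>
      h t t.2.1 (involution_ne_one t.2.2))))
  exact c.set.noSE H hH

end Case

end CfsgLib.Goldschmidt.RankTwoCase
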