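import Cfsg.Agent.Lib.Invol.Goldschmidt.RankTwoCase.Bad
import Mathlib.GroupTheory.Transfer

/-!
Owner: helper18.  Slice VI of S1169: no involution of `Z(S)` outside `A` has an unbalanced coset.  The
centraliser `S₀` in `S` of the component is strongly closed, so centralises `A^G = G`.
-/

set_option autoImplicit false
set_option linter.unusedSectionVars false
set_option linter.style.haveILetI false

namespace CfsgLib.Goldschmidt.RankTwoCase

open Subgroup
open scoped commutatorElement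
open CfsgLib.Signalizer (orderOf_eq_two_of)
open CfsgLib.FTDep (coreCent coreCent_le coreCent_norm coreCent_odd)
open CfsgLib.Invol.Goldschmidt (Smaller)

universe u

variable {G : Type u} [Group G] [Finite G]

namespace Case

variable {S : Sylow 2 G} {A : Subgroup G} (c : Case S A) {e : G}
include c

/-- A complement `S₀` of `A` in `S` centralised by an element moving `A#`. -/
theorem exists_split_central (hsmall : Smaller G) (he : e ∈ (S : Subgroup G)) (heA : e ∉ A)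
    (hec : ∀ s ∈ (S : Subgroup G), Commute s e) (hbad : Bad A e) :
    ∃ (S₀ : Subgroup G) (r : G), S₀ ≤ (S : Subgroup G) ∧ S₀ ⊓ A = ⊥ ∧
      (∀ s ∈ (S : Subgroup G), ∃ a ∈ A, a * s ∈ S₀) ∧ r ∈ normalizer (A : Set G) ∧
      (∀ s ∈ S₀, r * s * r⁻¹ = s) ∧ r ∉ centralizer (A : Set G) := by
  haveI := Fact.mk Nat.prime_two
  have hSC : (S : Subgroup G) ≤ centralizer ({e} : Set G) := fun s hs =>
    mem_centralizer_singleton_iff.2 (hec s hs).eq
  have hT : A.subgroupOf (centralizer ({e} : Set G)) ≤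
      ((S.subtype hSC : Sylow 2 _) : Subgroup (centralizer ({e} : Set G))) := fun x hx => c.le hx
  have o := c.odd_of_bad hsmall he heA hbad (S.subtype hSC) hT
  let C := centralizer ({e} : Set G)
  let L := normalClosure (barA A e : Set (Bar e))
  -- images determine the elements of `S`
  have hinj : ∀ {x y : G} (hx : x ∈ (S : Subgroup G)) (hy : y ∈ (S : Subgroup G)),
      proj e ⟨x, hSC hx⟩ = proj e ⟨y, hSC hy⟩ → x = y := by
    intro x y hx hy h
    have h1 : x⁻¹ * y ∈ coreCent ({e} : Set G) :=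
      mem_coreCent_of_proj (x := ⟨x, hSC hx⟩⁻¹ * ⟨y, hSC hy⟩) (by rw [map_mul, map_inv, h, inv_mul_cancel])
    obtain ⟨i, hi⟩ := IsPGroup.iff_orderOf.1 S.2 ⟨x⁻¹ * y, mul_mem (inv_mem hx) hy⟩
    rw [Subgroup.orderOf_mk] at hi
    exact inv_mul_eq_one.1 (orderOf_eq_one_iff.1 (Nat.eq_one_of_dvd_coprimes
      ((Nat.coprime_two_left.2 ((coreCent_odd ({e} : Set G)).of_dvd_nat
        (Subgroup.orderOf_dvd_natCard _ h1))).pow_left i) (hi ▸ dvd_rfl) dvd_rfl))
  set S₀ := (S : Subgroup G) ⊓ ((centralizer (L : Set (Bar e))).comap (proj e)).map C.subtype with hS₀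
  have hmem0 : ∀ {x : G} (hx : x ∈ (S : Subgroup G)),
      proj e ⟨x, hSC hx⟩ ∈ centralizer (L : Set (Bar e)) → x ∈ S₀ :=
    fun hx h => ⟨hx, ⟨_, hSC hx⟩, h, rfl⟩
  have hout0 : ∀ {x : G} (h : x ∈ S₀), proj e ⟨x, hSC h.1⟩ ∈ centralizer (L : Set (Bar e)) := by
    rintro _ ⟨-, y, hy, rfl⟩
    exact hy
  have hmemA : ∀ {x : G} (hx : x ∈ A), proj e ⟨x, hSC (c.le hx)⟩ ∈ barA A e :=
    fun hx => mem_map_of_mem _ (show (⟨_, hSC (c.le hx)⟩ : C) ∈ A.subgroupOf C from hx)
  have hsplit : ∀ s ∈ (S : Subgroup G), ∃ a ∈ A, a * s ∈ S₀ := by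
    intro s hs
    obtain ⟨_, ⟨a, ha, rfl⟩, h⟩ := o.exists_inner
      (x := proj e ⟨s, hSC hs⟩)
      (IsPGroup.to_le ((S.2.comap_of_injective C.subtype C.subtype_injective).map (proj e))
        (zpowers_le.2 ⟨⟨s, hSC hs⟩, hs, rfl⟩))
      (by
        rintro _ ⟨y, hy, rfl⟩
        exact Commute.map (show Commute y ⟨s, hSC hs⟩ from Subtype.ext (c.central hy hs).eq) _)
    refine ⟨a, ha, hmem0 (mul_mem (c.le ha) hs) ?_⟩
    have e1 : (⟨(a : G) * s, hSC (mul_mem (c.le ha) hs)⟩ : C) = ⟨s, hSC hs⟩ * a :=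
      Subtype.ext (c.central ha hs).eq
    rw [e1, map_mul]
    exact h
  have hdisj : S₀ ⊓ A = ⊥ := (eq_bot_iff_forall _).2 fun a ⟨ha0, haA⟩ =>
    hinj (c.le haA) (one_mem _) ((o.inf_centralizer (hmemA haA) (hout0 ha0)).trans (map_one (proj e)).symm)
  -- a lift of an element of the component moving `A#`
  obtain ⟨a, ha, ha1⟩ := c.exists_ne_one
  obtain ⟨b, hb, hb1, hba, -⟩ := c.exists_three ha ha1
  have hne : ∀ {x : G} (hx : x ∈ A), x ≠ 1 → proj e ⟨x, hSC (c.le hx)⟩ ≠ 1 := fun hx hx1 h =>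
    hx1 (hinj (c.le hx) (one_mem _) (h.trans (map_one (proj e)).symm))
  obtain ⟨l, hlL, hlA, hl⟩ := o.exists_conj (hmemA ha) (hmemA hb) (hne ha ha1) (hne hb hb1)
  obtain ⟨k, rfl⟩ := proj_surjective e l
  have hfix : ∀ x ∈ S₀, ∀ hx : x ∈ (S : Subgroup G),
      proj e k * proj e ⟨x, hSC hx⟩ * (proj e k)⁻¹ = proj e ⟨x, hSC hx⟩ := fun x hx0 hx => by
    rw [mem_centralizer_iff.1 (hout0 hx0) _ hlL, mul_inv_cancel_right]
  have hnO : (S : Subgroup G) ≤ normalizer (coreCent ({e} : Set G) : Set G) := fun x hx => coreCent_norm _ (hSC hx)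
  set R := (S : Subgroup G) ⊔ coreCent ({e} : Set G) with hR
  have hQR : (S : Subgroup G).map (MulAut.conj (k : G)).toMonoidHom ≤ R := by
    rintro _ ⟨s, hs, rfl⟩
    obtain ⟨p, hp, hps⟩ := hsplit s hs
    obtain ⟨y, hy, hye⟩ := hlA _ (hmemA hp)
    have hy' : (y : G) ∈ A := hy
    set y' : G := (y : G)
    show (k : G) * s * (k : G)⁻¹ ∈ R
    -- `k s k⁻¹ ≡ y⁻¹ (p s)`
    have h1 : proj e ((y⁻¹ * ⟨p * s, hSC (mul_mem (c.le hp) hs)⟩)⁻¹ * (k * ⟨s, hSC hs⟩ * k⁻¹)) = 1 := by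
      have e1 : (⟨s, hSC hs⟩ : C) = ⟨p, hSC (c.le hp)⟩⁻¹ * ⟨p * s, hSC (mul_mem (c.le hp) hs)⟩ :=
        Subtype.ext (by simp)
      have e2 : proj e k * proj e ⟨s, hSC hs⟩ * (proj e k)⁻¹ =
          (proj e y)⁻¹ * proj e ⟨p * s, hSC (mul_mem (c.le hp) hs)⟩ := by
        rw [e1, map_mul, map_inv, hye]
        conv_rhs => rw [← hfix _ hps (mul_mem (c.le hp) hs)]
        group
      rw [map_mul, map_inv, map_mul, map_inv, map_mul, map_mul, map_inv, e2, inv_mul_cancel]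
    have h2 := mul_mem
      (mem_sup_left (mul_mem (inv_mem (c.le hy')) (mul_mem (c.le hp) hs)) : y'⁻¹ * (p * s) ∈ R)
      (mem_sup_right (mem_coreCent_of_proj h1) : _ ∈ R)
    convert h2 using 1
    simp [y', mul_assoc]
  obtain ⟨R', hR', hSR', -, m, hm, hmQ⟩ := CfsgLib.Goldschmidt.RankTwo.exists_conj_le S.2
    (le_sup_left : (S : Subgroup G) ≤ R) (S.2.map _) hQR
  obtain rfl : R' = (S : Subgroup G) := S.3 hR' hSR'
  obtain ⟨s₁, hs₁, q, hq, rfl⟩ := (Core.mem_sup_iff_mul hnO).1 hm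
  set r := q * (k : G) with hr
  have hrS : ∀ x ∈ (S : Subgroup G), r * x * r⁻¹ ∈ (S : Subgroup G) := fun x hx => by
    have h1 := hmQ _ ⟨x, hx, rfl⟩
    simp only [MulEquiv.coe_toMonoidHom, MulAut.conj_apply] at h1
    have h2 := mul_mem (mul_mem (inv_mem hs₁) h1) hs₁
    convert h2 using 1
    rw [hr]; group
  have hrproj : ∀ {x : G} (hx : x ∈ (S : Subgroup G)),
      proj e ⟨r * x * r⁻¹, hSC (hrS x hx)⟩ = proj e k * proj e ⟨x, hSC hx⟩ * (proj e k)⁻¹ := by
    intro x hx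
    set q' : C := ⟨q, coreCent_le _ hq⟩
    have hq1 : proj e q' = 1 := (QuotientGroup.eq_one_iff _).2 (by
      obtain ⟨w, hw, e'⟩ := hq
      rwa [show q' = w from Subtype.ext e'.symm])
    have e1 : (⟨r * x * r⁻¹, hSC (hrS x hx)⟩ : C) = q' * (k * ⟨x, hSC hx⟩ * k⁻¹) * q'⁻¹ := Subtype.ext (by
      show r * x * r⁻¹ = q * ((k : G) * x * (k : G)⁻¹) * q⁻¹
      rw [hr]; group)
    rw [e1, map_mul, map_mul, map_inv, hq1, inv_one, mul_one, one_mul, map_mul, map_mul, map_inv]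
  refine ⟨S₀, r, inf_le_left, hdisj, hsplit, mem_normalizer_fintype fun x hx => c.conj_mem hx (hrS x (c.le hx)),
    fun s hs => hinj (hrS s hs.1) hs.1 (by rw [hrproj hs.1, hfix s hs hs.1]), fun hrc => hba ?_⟩
  refine (hinj (hrS a (c.le ha)) (c.le hb) (by rw [hrproj (c.le ha), hl])).symm.trans ?_
  rw [← mem_centralizer_iff.1 hrc a ha, mul_inv_cancel_right]

/-- **A central involution outside `A` has a balanced coset.** -/
theorem false_of_central (hsmall : Smaller G) (he : e ∈ (S : Subgroup G)) (heA : e ∉ A)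
    (hec : ∀ s ∈ (S : Subgroup G), Commute s e) (hbad : Bad A e) : False := by
  haveI := Fact.mk Nat.prime_two
  haveI := c.set.simple
  obtain ⟨S₀, r, hle, hdisj, hsplit, hrN, hrfix, hrC⟩ := c.exists_split_central hsmall he heA hec hbad
  -- the projection to `A`
  have huniq : ∀ {a b s : G}, a ∈ A → b ∈ A → a * s ∈ S₀ → b * s ∈ S₀ → a = b := fun {a b s} ha hb h1 h2 => by
    have h3 : a * b⁻¹ ∈ S₀ ⊓ A := ⟨by
      have := mul_mem h1 (inv_mem h2)
      rwa [show a * s * (b * s)⁻¹ = a * b⁻¹ by group] at this, A.mul_mem ha (A.inv_mem hb)⟩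
    rw [hdisj, mem_bot, mul_inv_eq_one] at h3
    exact h3
  choose f hfA hf using hsplit
  haveI hAc : IsMulCommutative A := c.set.elem.1
  letI : CommGroup A := { (inferInstance : Group A) with mul_comm := fun x y => hAc.is_comm.comm x y }
  set H := centralizer (A : Set G) with hH
  set SH := (S : Subgroup G).subgroupOf H with hSH
  have hfmul : ∀ (x y : G) (hx : x ∈ (S : Subgroup G)) (hy : y ∈ (S : Subgroup G)),
      f (x * y) (mul_mem hx hy) = f x hx * f y hy := fun x y hx hy => by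
    refine huniq (hfA _ _) (mul_mem (hfA _ hx) (hfA _ hy)) (hf _ _) ?_
    rw [show f x hx * f y hy * (x * y) = f x hx * (f y hy * x) * y by group, (c.central (hfA _ hy) hx).eq,
      show f x hx * (x * f y hy) * y = f x hx * x * (f y hy * y) by group]
    exact mul_mem (hf _ hx) (hf _ hy)
  let φ : SH →* A :=
    { toFun := fun x => ⟨f x.1 x.2, hfA _ x.2⟩
      map_one' := Subtype.ext (huniq (hfA _ _) (one_mem A) (hf _ _) (by simp))
      map_mul' := fun x y => Subtype.ext (hfmul ((x.1 : H) : G) ((y.1 : H) : G) x.2 y.2) }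
  haveI : SH.FiniteIndex := inferInstance
  set V := MonoidHom.transfer φ with hV
  have hidx : Odd SH.index := Nat.not_even_iff_odd.1 fun he' =>
    S.not_dvd_index ((even_iff_two_dvd.1 he').trans (relIndex_dvd_index_of_le c.le_centralizer))
  have hVA : ∀ {a : G} (ha : a ∈ A) (haH : a ∈ H), ((V ⟨a, haH⟩ : A) : G) = a := by
    intro a ha haH
    have hcen : ∀ (k : ℕ) (g₀ : H), g₀⁻¹ * (⟨a, haH⟩ : H) ^ k * g₀ = (⟨a, haH⟩ : H) ^ k := fun k g₀ => by
      refine Subtype.ext ?_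
      show (g₀ : G)⁻¹ * a ^ k * g₀ = a ^ k
      rw [mul_assoc, mem_centralizer_iff.1 g₀.2 _ (pow_mem ha k), inv_mul_cancel_left]
    rw [hV, MonoidHom.transfer_eq_pow φ _ fun k g₀ _ => hcen k g₀]
    have e1 : a ^ SH.index = a := by
      obtain ⟨j, hj⟩ := hidx
      rw [hj, pow_succ, pow_mul, pow_two, c.sq a ha, one_pow, one_mul]
    show f _ _ = a
    refine huniq (hfA _ _) ha (hf _ _) ?_
    show a * a ^ SH.index ∈ S₀
    rw [e1, c.sq a ha]
    exact one_mem _
  have hVconj : ∀ (x g : H), V (g * x * g⁻¹) = V x := fun x g => by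
    rw [map_mul, map_mul, mul_comm (V g), mul_assoc, ← map_mul, mul_inv_cancel, map_one, mul_one]
  -- `S₀` is strongly closed
  have hcl : Cfsg.IsStronglyClosed S₀ (S : Subgroup G) := by
    refine ⟨hle, fun x hx g hg => ?_⟩
    obtain ⟨n, hn, hne⟩ := c.set.control x (hle hx) g hg
    -- `n = d r ^ i` with `d ∈ C(A)`
    obtain ⟨a, ha, ha1⟩ := c.exists_ne_one
    have hr1 : r * a * r⁻¹ ∈ A := (mem_normalizer_iff.1 hrN a).1 ha
    have hr11 : r * a * r⁻¹ ≠ 1 := fun h => ha1 (conj_eq_one_iff.1 h)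
    have hrne : r * a * r⁻¹ ≠ a := fun h => hrC (c.fix hrN ha ha1 h)
    have hrne2 : r * (r * a * r⁻¹) * r⁻¹ ≠ r * a * r⁻¹ := fun h => hrC (c.fix hrN hr1 hr11 h)
    obtain ⟨i, hi⟩ : ∃ i : ℕ, n * a * n⁻¹ = r ^ i * a * (r ^ i)⁻¹ := by
      obtain ⟨b, hb, hb1, hba, hab1, -, -, hall⟩ := c.exists_three ha ha1
      set a₁ := r * a * r⁻¹ with ha₁
      have h2A : r * a₁ * r⁻¹ ∈ A := (mem_normalizer_iff.1 hrN a₁).1 hr1
      have hna : n * a * n⁻¹ ∈ A := (mem_normalizer_iff.1 hn a).1 ha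
      have hna1 : n * a * n⁻¹ ≠ 1 := fun h => ha1 (conj_eq_one_iff.1 h)
      have hr21 : r * a₁ * r⁻¹ ≠ 1 := fun h => hr11 (conj_eq_one_iff.1 h)
      have hr2a : r * a₁ * r⁻¹ ≠ a := fun h => by
        have h1 : a * a₁ ≠ 1 := fun e => hrne (by rw [eq_inv_of_mul_eq_one_right e, c.inv_eq ha])
        refine hrC (c.fix hrN (mul_mem ha hr1) h1 ?_)
        rw [show r * (a * a₁) * r⁻¹ = (r * a * r⁻¹) * (r * a₁ * r⁻¹) by group, h]
        exact (c.comm hr1 ha).eq
      have key : n * a * n⁻¹ = a ∨ n * a * n⁻¹ = a₁ ∨ n * a * n⁻¹ = r * a₁ * r⁻¹ := by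
        rcases hall _ hna with e1 | e1 | e1 | e1 <;> rcases hall _ hr1 with e2 | e2 | e2 | e2 <;>
          rcases hall _ h2A with e3 | e3 | e3 | e3 <;>
          first
            | exact absurd e1 hna1
            | exact absurd e2 hr11
            | exact absurd e3 hr21
            | exact absurd e2 hrne
            | exact absurd e3 hr2a
            | exact absurd (e3.trans e2.symm) hrne2
            | exact Or.inl e1
            | exact Or.inr (Or.inl (e1.trans e2.symm))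
            | exact Or.inr (Or.inr (e1.trans e3.symm))
      rcases key with h | h | h
      · exact ⟨0, by simpa using h⟩
      · exact ⟨1, by simpa using h⟩
      · exact ⟨2, by rw [h, pow_two, ha₁]; group⟩
    have hdN : n * (r ^ i)⁻¹ ∈ normalizer (A : Set G) := mul_mem hn (inv_mem (pow_mem hrN i))
    have hdC : n * (r ^ i)⁻¹ ∈ H := c.fix hdN ((mem_normalizer_iff.1 hn a).1 ha)
      (fun h => ha1 (conj_eq_one_iff.1 h)) (by
        conv_lhs => rw [hi]
        rw [show n * (r ^ i)⁻¹ * (r ^ i * a * (r ^ i)⁻¹) * (n * (r ^ i)⁻¹)⁻¹ = n * a * n⁻¹ by group, hi])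
    set d := n * (r ^ i)⁻¹ with hd
    have hrx : ∀ j : ℕ, r ^ j * x * (r ^ j)⁻¹ = x := fun j => by
      have h1 : Commute r x := mul_inv_eq_iff_eq_mul.1 (hrfix x hx)
      rw [(h1.pow_left j).eq, mul_inv_cancel_right]
    have hy : g * x * g⁻¹ = d * x * d⁻¹ := by
      rw [← hne]
      conv_rhs => rw [← hrx i]
      rw [hd]; group
    rw [hy] at hg ⊢
    -- split `d x d⁻¹` and apply `r`
    set p := f (d * x * d⁻¹) hg with hp
    have hpA := hfA _ hg
    have hps := hf _ hg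
    set s' := p * (d * x * d⁻¹) with hs'
    set d' := r * d * r⁻¹ with hd'
    have hd'H : d' ∈ H := mem_centralizer_iff.2 fun b hb => by
      have hb' : r⁻¹ * b * r ∈ A := by
        have := (mem_normalizer_iff.1 (inv_mem hrN) b).1 hb
        rwa [inv_inv] at this
      calc b * d' = r * (r⁻¹ * b * r * d) * r⁻¹ := by rw [hd']; group
        _ = r * (d * (r⁻¹ * b * r)) * r⁻¹ := by rw [mem_centralizer_iff.1 hdC _ hb']
        _ = d' * b := by rw [hd']; group
    have hrp : r * p * r⁻¹ ∈ A := (mem_normalizer_iff.1 hrN p).1 hpA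
    have e1 : d * x * d⁻¹ = p⁻¹ * s' := by rw [hs', inv_mul_cancel_left]
    have e2 : d' * x * d'⁻¹ = (r * p * r⁻¹)⁻¹ * s' := by
      rw [hd']
      conv_lhs => rw [← hrfix x hx]
      conv_rhs => rw [← hrfix s' hps]
      rw [show r * d * r⁻¹ * (r * x * r⁻¹) * (r * d * r⁻¹)⁻¹ = r * (d * x * d⁻¹) * r⁻¹ by group, e1]
      group
    have hxH : x ∈ H := c.le_centralizer (hle hx)
    have hs'H : s' ∈ H := c.le_centralizer (hle hps)
    have hpH : p ∈ H := c.le_centralizer (c.le hpA)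
    have hrpH : r * p * r⁻¹ ∈ H := c.le_centralizer (c.le hrp)
    have hval : ∀ {b : G} (hb : b ∈ A) (hbH : b ∈ H) (dd : G) (hdd : dd ∈ H),
        dd * x * dd⁻¹ = b⁻¹ * s' → ((V ⟨x, hxH⟩ : A) : G) = b⁻¹ * (V ⟨s', hs'H⟩ : A) := by
      intro b hb hbH dd hdd he'
      have h1 : (⟨dd, hdd⟩ : H) * ⟨x, hxH⟩ * ⟨dd, hdd⟩⁻¹ = ⟨b, hbH⟩⁻¹ * ⟨s', hs'H⟩ := Subtype.ext he'
      rw [← hVconj ⟨x, hxH⟩ ⟨dd, hdd⟩, h1, map_mul, map_inv, Subgroup.coe_mul, Subgroup.coe_inv, hVA hb]
    have h3 := (hval hpA hpH d hdC e1).symm.trans (hval hrp hrpH d' hd'H e2)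
    have h4 : p = r * p * r⁻¹ := inv_injective (mul_right_cancel h3)
    have hp1 : p = 1 := by_contra fun h => hrC (c.fix hrN hpA h h4.symm)
    rwa [hs', hp1, one_mul] at hps
  -- so `S₀` is central, and `S = A`
  have hP := CfsgLib.TwoFusion.ProductFusion.normalClosure_commutator_le c.set.closed hcl
    (fun a ha s hs => (c.central ha (hle hs)).eq) (by rw [inf_comm]; exact hdisj)
  rw [c.oddCore_eq] at hP
  have htop : normalClosure (A : Set G) = ⊤ := by
    rcases (inferInstance : (normalClosure (A : Set G)).Normal).eq_bot_or_eq_top with h | h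
    · obtain ⟨a, ha, ha1⟩ := c.exists_ne_one
      exact absurd (mem_bot.1 (h ▸ subset_normalClosure ha)) ha1
    · exact h
  have hS0 : ∀ s ∈ S₀, s = 1 := fun s hs => by
    have hz : s ∈ center G := mem_center_iff.2 fun g =>
      (commutatorElement_eq_one_iff_commute.1 (mem_bot.1 (hP (commutator_mem_commutator
        (htop ▸ mem_top g) (subset_normalClosure hs))))).eq
    rcases (inferInstance : (center G).Normal).eq_bot_or_eq_top with h | h
    · rw [h, mem_bot] at hz; exact hz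
    · exact absurd ⟨⟨fun p q => mem_center_iff.1 (h ▸ mem_top q) p⟩⟩ c.not_comm
  have hSA : (S : Subgroup G) ≤ A := fun s hs => by
    rw [eq_inv_of_mul_eq_one_right (hS0 _ (hf s hs))]
    exact inv_mem (hfA s hs)
  exact c.set.noncomm ⟨⟨fun p q => Subtype.ext (c.comm (hSA p.2) (hSA q.2)).eq⟩⟩

end Case

end CfsgLib.Goldschmidt.RankTwoCase
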