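import Cfsg.Agent.Lib.Core.Coprime
import Cfsg.Agent.Lib.Bender.GroupLemmas
import Cfsg.Agent.Lib.OddLocal.Final.OddOrder

/-!
Owner: helper18.  Slice VI of S1169: a four-group acting on a group of odd order, together with subgroups
`θ a ≤ C(a)` which contain all commutators of `C(a)` with the four-group and meet in a common subgroup.
Their join meets `C(a)` in `θ a`.
-/

set_option autoImplicit false
set_option linter.unusedSectionVars false
set_option linter.style.haveILetI false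

namespace CfsgLib.Goldschmidt.RankTwoCase

open Subgroup
open scoped commutatorElement
open CfsgLib.Signalizer (involution_inv involution_sq)

universe u

section Split

variable {G : Type u} [Group G] [Finite G]

/-- An element of an odd group is a fixed element times a power of its commutator with an involution. -/
theorem exists_split {X : Subgroup G} (hX : Odd (Nat.card X)) {t x : G} (ht : t * t = 1) (hx : x ∈ X)
    (hn : ∀ y ∈ X, t * y * t ∈ X) :
    ∃ z ∈ X, Commute z t ∧ ∃ y ∈ zpowers (x⁻¹ * (t * x * t)), t * y * t = y⁻¹ ∧ x = z * y := by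
  set s := x⁻¹ * (t * x * t) with hs
  have hsX : s ∈ X := mul_mem (inv_mem hx) (hn x hx)
  have hti : t⁻¹ = t := inv_eq_of_mul_eq_one_right ht
  have hts : t * s * t = s⁻¹ := by
    rw [hs, mul_inv_rev, inv_inv, mul_inv_rev, mul_inv_rev, hti]
    simp only [mul_assoc, ht, mul_one]
  obtain ⟨k, hk⟩ := hX.of_dvd_nat (X.orderOf_dvd_natCard hsX)
  set r := s ^ (k + 1) with hr
  have hrr : r * r = s := by
    rw [hr, ← pow_add, show k + 1 + (k + 1) = (2 * k + 1) + 1 by omega, ← hk, pow_succ, pow_orderOf_eq_one,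
      one_mul]
  have htr : t * r * t = r⁻¹ := by
    have h1 : t * r * t = (t * s * t) ^ (k + 1) := by
      conv_rhs => rw [show t * s * t = t * s * t⁻¹ by rw [hti], conj_pow]
      rw [hti]
    rw [h1, hts, inv_pow]
  have hxs : x * s = t * x * t := mul_inv_cancel_left x _
  refine ⟨x * r, mul_mem hx (pow_mem hsX _), ?_, r⁻¹, inv_mem (pow_mem (mem_zpowers _) _), ?_,
    (mul_inv_cancel_right x r).symm⟩
  · have h1 : t * (x * r) * t = x * r := by
      rw [show t * (x * r) * t = t * x * (1 * r) * t by rw [one_mul, mul_assoc t x r], ← ht,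
        show t * x * (t * t * r) * t = (t * x * t) * (t * r * t) by simp only [mul_assoc], ← hxs, htr,
        mul_assoc x, ← hrr, mul_inv_cancel_right]
    show x * r * t = t * (x * r)
    conv_lhs => rw [← h1]
    rw [mul_assoc (t * (x * r)), ht, mul_one]
  · rw [← hti, show t⁻¹ * r⁻¹ * t⁻¹ = (t * r * t)⁻¹ by group, htr]

/-- An element of odd order inverting nothing: if `y c y⁻¹ = c⁻¹` with `y`, `c` of odd order then `c = 1`. -/
theorem eq_one_of_inverted_odd {y c : G} (hy : Odd (orderOf y)) (hc : Odd (orderOf c))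
    (h : y * c * y⁻¹ = c⁻¹) : c = 1 := by
  obtain ⟨k, hk⟩ := hy
  have h2 : Commute (y * y) c := by
    show y * y * c = c * (y * y)
    have : y * y * c * (y * y)⁻¹ = c := by
      rw [show y * y * c * (y * y)⁻¹ = y * (y * c * y⁻¹) * y⁻¹ by group, h,
        show y * c⁻¹ * y⁻¹ = (y * c * y⁻¹)⁻¹ by group, h, inv_inv]
    exact mul_inv_eq_iff_eq_mul.1 this
  have h3 : Commute y c := by
    have e : y = ((y * y) ^ k)⁻¹ := by
      rw [eq_inv_iff_mul_eq_one, ← pow_two, ← pow_mul, ← pow_succ', ← hk, pow_orderOf_eq_one]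
    rw [e]
    exact (h2.pow_left k).inv_left
  rw [h3.eq, mul_inv_cancel_right] at h
  exact CfsgLib.ZStar.eq_one_of_odd_of_sq hc (by rw [pow_two]; nth_rw 2 [h]; exact mul_inv_cancel c)

end Split

section Abelian

variable {Q : Type u} [Group Q] [Finite Q]

/-- The hypotheses left modulo the derived group. -/
structure Flat (a b : Q) (T : Q → Subgroup Q) (P : Subgroup Q) : Prop where
  odd : Odd (Nat.card P)
  sq : ∀ i, i = a ∨ i = b ∨ i = a * b → i * i = 1
  le : ∀ i, i = a ∨ i = b ∨ i = a * b → T i ≤ P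
  fix : ∀ i, i = a ∨ i = b ∨ i = a * b → ∀ x ∈ T i, Commute x i
  inv : ∀ i, i = a ∨ i = b ∨ i = a * b → ∀ j, j = a ∨ j = b ∨ j = a * b → ∀ x ∈ T i, j * x * j ∈ T i
  comm : ∀ i, i = a ∨ i = b ∨ i = a * b → ∀ x ∈ T i, ∀ y ∈ T i, Commute x y
  der : ∀ x ∈ P, ∀ y ∈ P, ∀ i, i = a ∨ i = b ∨ i = a * b → Commute ⁅x, y⁆ i
  meet : ∀ i, i = a ∨ i = b ∨ i = a * b → ∀ j, j = a ∨ j = b ∨ j = a * b → i ≠ j → ∀ x ∈ T i,
    Commute x j → ∀ k, k = a ∨ k = b ∨ k = a * b → x ∈ T k

namespace Flat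

variable {a b : Q} {T : Q → Subgroup Q} {P : Subgroup Q} (f : Flat a b T P)
include f

theorem commute {i j : Q} (hi : i = a ∨ i = b ∨ i = a * b) (hj : j = a ∨ j = b ∨ j = a * b) (hij : i ≠ j)
    {x y : Q} (hx : x ∈ T i) (hy : y ∈ T j) : Commute x y := by
  obtain ⟨z, hz, hzi, w, hw, hwi, rfl⟩ :=
    exists_split (f.odd.of_dvd_nat (card_dvd_of_le (f.le j hj))) (f.sq i hi) hy (fun v hv => f.inv j hj i hi v hv)
  refine (f.comm i hi x hx z (f.meet j hj i hi hij.symm z hz hzi i hi)).mul_right ?_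
  have hwj : w ∈ T j := by
    have h := mul_mem (inv_mem hz) hy
    rwa [inv_mul_cancel_left] at h
  set c := ⁅x, w⁆ with hc
  have hxP := f.le i hi hx
  have hwP := f.le j hj hwj
  have hcP : c ∈ P := by
    rw [hc, commutatorElement_def]; exact mul_mem (mul_mem (mul_mem hxP hwP) (inv_mem hxP)) (inv_mem hwP)
  have hci := f.der x hxP w hwP i hi
  have hii := f.sq i hi
  have hxi : i * x * i = x := by rw [← (f.fix i hi x hx).eq, mul_assoc, hii, mul_one]
  have h1 : i * c * i = c := by rw [← hci.eq, mul_assoc, hii, mul_one]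
  have e : i⁻¹ = i := inv_eq_of_mul_eq_one_right hii
  have h2 : ⁅x, w⁻¹⁆ = c := by
    conv_rhs => rw [← h1, hc, show i * ⁅x, w⁆ * i = i * ⁅x, w⁆ * i⁻¹ by rw [e], commutatorElement_def]
    rw [commutatorElement_def, inv_inv,
      show i * (x * w * x⁻¹ * w⁻¹) * i⁻¹ = (i * x * i⁻¹) * (i * w * i⁻¹) * (i * x * i⁻¹)⁻¹ * (i * w * i⁻¹)⁻¹ by
        group, e, hxi, hwi, inv_inv]
  have h3 : w * c * w⁻¹ = c⁻¹ := by
    conv_lhs => rw [← h2]
    rw [hc, commutatorElement_def, commutatorElement_def]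
    group
  have h4 := eq_one_of_inverted_odd (f.odd.of_dvd_nat (P.orderOf_dvd_natCard hwP))
    (f.odd.of_dvd_nat (P.orderOf_dvd_natCard hcP)) h3
  exact commutatorElement_eq_one_iff_commute.1 h4

theorem commute_all {i j : Q} (hi : i = a ∨ i = b ∨ i = a * b) (hj : j = a ∨ j = b ∨ j = a * b) {x y : Q}
    (hx : x ∈ T i) (hy : y ∈ T j) : Commute x y := by
  by_cases hij : i = j
  · subst hij; exact f.comm i hi x hx y hy
  · exact f.commute hi hj hij hx hy

/-- The join meets `C(a)` in `T a`. -/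
theorem mem_of_commute (hab : Commute a b) (ha : a ≠ 1) (hb : b ≠ 1) (hne : a ≠ b) {w : Q}
    (hw : w ∈ T a ⊔ T b ⊔ T (a * b)) (hwa : Commute w a) : w ∈ T a := by
  have h1 : a = a ∨ a = b ∨ a = a * b := Or.inl rfl
  have h2 : b = a ∨ b = b ∨ b = a * b := Or.inr (Or.inl rfl)
  have h3 : a * b = a ∨ a * b = b ∨ a * b = a * b := Or.inr (Or.inr rfl)
  have hbc : b ≠ a * b := fun h => ha (by simpa using h.symm)
  have hac : a ≠ a * b := fun h => hb (by simpa using h.symm)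
  have hn12 : T a ⊔ T b ≤ normalizer (T (a * b) : Set Q) := by
    refine sup_le ?_ ?_ <;> intro x hx <;> refine mem_normalizer_fintype fun y hy => ?_
    · rw [(f.commute_all h1 h3 hx hy).eq, mul_inv_cancel_right]; exact hy
    · rw [(f.commute_all h2 h3 hx hy).eq, mul_inv_cancel_right]; exact hy
  obtain ⟨p, hp, z, hz, rfl⟩ := (Core.mem_sup_iff_mul hn12).1 hw
  have hn1 : T a ≤ normalizer (T b : Set Q) := fun x hx => mem_normalizer_fintype fun y hy => by
    rw [(f.commute_all h1 h2 hx hy).eq, mul_inv_cancel_right]; exact hy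
  obtain ⟨x, hx, y, hy, rfl⟩ := (Core.mem_sup_iff_mul hn1).1 hp
  have haa := f.sq a h1
  have hx' : a * x * a = x := by rw [← (f.fix a h1 x hx).eq, mul_assoc, haa, mul_one]
  have hye : a * y * a * (a * z * a) = y * z := by
    have h : a * (x * y * z) * a = x * y * z := by rw [← hwa.eq, mul_assoc, haa, mul_one]
    have h' : a * x * a * (a * y * a * (a * z * a)) = x * (y * z) := by
      rw [show a * x * a * (a * y * a * (a * z * a)) = a * x * (a * a) * y * (a * a) * z * a by group, haa,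
        show a * x * 1 * y * 1 * z * a = a * (x * y * z) * a by group, h, mul_assoc]
    rw [hx'] at h'
    exact mul_left_cancel h'
  have hy' : a * y * a ∈ T b := f.inv b h2 a h1 y hy
  have hz' : a * z * a ∈ T (a * b) := f.inv _ h3 a h1 z hz
  set q := y⁻¹ * (a * y * a) with hq
  have hqb : q ∈ T b := mul_mem (inv_mem hy) hy'
  have hqc : q ∈ T (a * b) := by
    have e : q = z * (a * z * a)⁻¹ := by
      rw [hq, inv_mul_eq_iff_eq_mul, ← mul_assoc, eq_mul_inv_iff_mul_eq, hye]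
    rw [e]; exact mul_mem hz (inv_mem hz')
  have hqa : q ∈ T a := f.meet b h2 _ h3 hbc q hqb (f.fix _ h3 q hqc) a h1
  have hq1 : q = 1 := by
    have e1 : a * q * a = q := by rw [← (f.fix a h1 q hqa).eq, mul_assoc, haa, mul_one]
    have e : a⁻¹ = a := inv_eq_of_mul_eq_one_right haa
    have e2 : a * q * a = q⁻¹ := by
      rw [hq, show a * (y⁻¹ * (a * y * a)) * a = (a * y⁻¹ * a) * y * (a * a) by group, haa, mul_one,
        mul_inv_rev, inv_inv, show (a * y * a)⁻¹ = a⁻¹ * y⁻¹ * a⁻¹ by group, e]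
    exact CfsgLib.ZStar.eq_one_of_odd_of_sq (f.odd.of_dvd_nat (P.orderOf_dvd_natCard (f.le a h1 hqa)))
      (by rw [pow_two]; nth_rw 2 [← e1]; rw [e2, mul_inv_cancel])
  have hya : Commute y a := by
    have e1 : a * y * a = y := (inv_mul_eq_one.1 (hq.symm.trans hq1)).symm
    show y * a = a * y
    conv_lhs => rw [← e1]
    rw [mul_assoc (a * y), haa, mul_one]
  have hza : Commute z a := by
    have e2 : a * z * a = z := by
      rw [(inv_mul_eq_one.1 (hq.symm.trans hq1)).symm] at hye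
      exact mul_left_cancel hye
    show z * a = a * z
    conv_lhs => rw [← e2]
    rw [mul_assoc (a * z), haa, mul_one]
  exact mul_mem (mul_mem hx (f.meet b h2 a h1 hne.symm y hy hya a h1)) (f.meet _ h3 a h1 hac.symm z hz hza a h1)

end Flat

end Abelian

section Main

variable {G : Type u} [Group G] [Finite G]

/-- The join of a family indexed by the involutions of `A`. -/
def join (A : Subgroup G) (θ : G → Subgroup G) : Subgroup G :=
  ⨆ a : {a : G // a ∈ A ∧ a ≠ 1}, θ a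

theorem le_join {A : Subgroup G} {θ : G → Subgroup G} {a : G} (ha : a ∈ A) (ha1 : a ≠ 1) : θ a ≤ join A θ :=
  le_iSup (fun a : {a : G // a ∈ A ∧ a ≠ 1} => θ a) ⟨a, ha, ha1⟩

theorem join_le {A : Subgroup G} {θ : G → Subgroup G} {X : Subgroup G}
    (h : ∀ a ∈ A, a ≠ 1 → θ a ≤ X) : join A θ ≤ X :=
  iSup_le fun a => h a a.2.1 a.2.2

theorem mem_normalizer_join {A : Subgroup G} {θ : G → Subgroup G} {g : G}
    (h : ∀ a ∈ A, a ≠ 1 → ∀ x ∈ θ a, g * x * g⁻¹ ∈ join A θ) : g ∈ normalizer (join A θ : Set G) := by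
  refine mem_normalizer_fintype fun x hx => ?_
  exact (join_le (X := (join A θ).comap (MulAut.conj g).toMonoidHom) fun a ha ha1 x hx => h a ha ha1 x hx) hx

/-- The hypotheses. -/
structure Family (A : Subgroup G) (θ : G → Subgroup G) (P D : Subgroup G) : Prop where
  card : Nat.card A = 4
  sq : ∀ a ∈ A, a * a = 1
  odd : Odd (Nat.card P)
  norm : A ≤ normalizer (P : Set G)
  le : ∀ a ∈ A, a ≠ 1 → θ a ≤ P
  fix : ∀ a ∈ A, a ≠ 1 → ∀ x ∈ θ a, Commute x a
  normal : ∀ a ∈ A, a ≠ 1 → ∀ x ∈ P, Commute x a → ∀ y ∈ θ a, x * y * x⁻¹ ∈ θ a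
  comm : ∀ a ∈ A, a ≠ 1 → ∀ x ∈ P, Commute x a → ∀ b ∈ A, x * b * x⁻¹ * b⁻¹ ∈ θ a
  meet : ∀ a ∈ A, a ≠ 1 → ∀ b ∈ A, b ≠ 1 → a ≠ b → θ a ⊓ centralizer ({b} : Set G) = D

namespace Family

variable {A : Subgroup G} {θ : G → Subgroup G} {P D : Subgroup G} (f : Family A θ P D)
include f

theorem inv_eq {b : G} (hb : b ∈ A) : b⁻¹ = b := inv_eq_of_mul_eq_one_right (f.sq b hb)

theorem comm_A {a b : G} (ha : a ∈ A) (hb : b ∈ A) : Commute a b := by
  have h := f.sq _ (mul_mem ha hb)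
  calc a * b = (a * b)⁻¹ := (inv_eq_of_mul_eq_one_right h).symm
    _ = b * a := by rw [mul_inv_rev, f.inv_eq ha, f.inv_eq hb]

/-- The commutator in the other order. -/
theorem comm' {a b x : G} (ha : a ∈ A) (ha1 : a ≠ 1) (hx : x ∈ P) (hxa : Commute x a) (hb : b ∈ A) :
    x⁻¹ * (b * x * b) ∈ θ a := by
  have h := f.comm a ha ha1 _ (inv_mem hx) hxa.inv_left b hb
  rw [f.inv_eq hb, inv_inv] at h
  convert h using 1
  group

theorem invariant {a b x : G} (ha : a ∈ A) (ha1 : a ≠ 1) (hb : b ∈ A) (hx : x ∈ θ a) :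
    b * x * b ∈ θ a := by
  have h := mul_mem hx (f.comm' ha ha1 (f.le a ha ha1 hx) (f.fix a ha ha1 x hx) hb)
  rwa [mul_inv_cancel_left] at h

theorem exists_three {a : G} (ha : a ∈ A) (ha1 : a ≠ 1) : ∃ b ∈ A, b ≠ 1 ∧ b ≠ a ∧ a * b ≠ 1 ∧
    ∀ c ∈ A, c ≠ 1 → c = a ∨ c = b ∨ c = a * b := by
  classical
  haveI := Fintype.ofFinite A
  have hA : Fintype.card A = 4 := by rw [← Nat.card_eq_fintype_card]; exact f.card
  obtain ⟨b, hb⟩ : ∃ b : A, b ≠ 1 ∧ b ≠ ⟨a, ha⟩ := by
    by_contra h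
    push Not at h
    have hsub : (Finset.univ : Finset A) ⊆ {1, ⟨a, ha⟩} := fun x _ => by
      by_cases hx : x = 1
      · exact Finset.mem_insert.2 (Or.inl hx)
      · exact Finset.mem_insert.2 (Or.inr (Finset.mem_singleton.2 (h x hx)))
    have := (Finset.card_le_card hsub).trans Finset.card_le_two
    rw [Finset.card_univ, hA] at this
    omega
  have h1 : a * (b : G) ≠ 1 := fun h => hb.2 (Subtype.ext (by
    rw [eq_inv_of_mul_eq_one_right h, f.inv_eq ha]))
  refine ⟨b, b.2, fun h => hb.1 (Subtype.ext h), fun h => hb.2 (Subtype.ext h), h1, fun c hc hc1 => ?_⟩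
  by_contra hne
  push Not at hne
  let t : Finset A := {1, ⟨a, ha⟩, b, ⟨a * b, mul_mem ha b.2⟩, ⟨c, hc⟩}
  have ht : t.card = 5 := by
    have e1 : (1 : A) ≠ ⟨a, ha⟩ := fun h => ha1 (congrArg Subtype.val h).symm
    have e2 : (1 : A) ≠ ⟨a * b, mul_mem ha b.2⟩ := fun h => h1 (congrArg Subtype.val h).symm
    have e3 : (1 : A) ≠ ⟨c, hc⟩ := fun h => hc1 (congrArg Subtype.val h).symm
    have e4 : (⟨a, ha⟩ : A) ≠ ⟨a * b, mul_mem ha b.2⟩ := fun h =>
      hb.1 (Subtype.ext (mul_eq_left.1 (congrArg Subtype.val h).symm))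
    have e5 : b ≠ ⟨a * b, mul_mem ha b.2⟩ := fun h => ha1 (mul_eq_right.1 (congrArg Subtype.val h).symm)
    have e6 : (⟨a, ha⟩ : A) ≠ ⟨c, hc⟩ := fun h => hne.1 (congrArg Subtype.val h).symm
    have e7 : b ≠ ⟨c, hc⟩ := fun h => hne.2.1 (congrArg Subtype.val h).symm
    have e8 : (⟨a * b, mul_mem ha b.2⟩ : A) ≠ ⟨c, hc⟩ := fun h => hne.2.2 (congrArg Subtype.val h).symm
    simp only [t]
    repeat rw [Finset.card_insert_of_notMem]
    · simp
    all_goals simp [e1, hb.1.symm, e2, e3, hb.2.symm, e4, e5, e6, e7, e8]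
  have := t.card_le_univ
  rw [ht, hA] at this
  omega

/-- Passage to a smaller group. -/
theorem restrict {X : Subgroup G} (hXP : X ≤ P) (hX : A ≤ normalizer (X : Set G)) :
    Family A (fun a => θ a ⊓ X) X (D ⊓ X) where
  card := f.card
  sq := f.sq
  odd := f.odd.of_dvd_nat (card_dvd_of_le hXP)
  norm := hX
  le _ _ _ := inf_le_right
  fix a ha ha1 x hx := f.fix a ha ha1 x hx.1
  normal a ha ha1 x hx hxa y hy :=
    ⟨f.normal a ha ha1 x (hXP hx) hxa y hy.1, X.mul_mem (X.mul_mem hx hy.2) (X.inv_mem hx)⟩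
  comm a ha ha1 x hx hxa b hb := by
    refine ⟨f.comm a ha ha1 x (hXP hx) hxa b hb, ?_⟩
    rw [show x * b * x⁻¹ * b⁻¹ = x * (b * x⁻¹ * b⁻¹) by group]
    exact X.mul_mem hx ((mem_normalizer_iff.1 (hX hb) _).1 (X.inv_mem hx))
  meet a ha ha1 b hb hb1 hab := by
    rw [← f.meet a ha ha1 b hb hb1 hab, inf_right_comm]

theorem norm_join : A ≤ normalizer (join A θ : Set G) := fun b hb =>
  mem_normalizer_join fun a ha ha1 x hx => le_join ha ha1 (by rw [f.inv_eq hb]; exact f.invariant ha ha1 hb hx)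

theorem le_meet {a : G} (ha : a ∈ A) (ha1 : a ≠ 1) : D ≤ θ a := by
  obtain ⟨b, hb, hb1, hba, -, -⟩ := f.exists_three ha ha1
  rw [← f.meet a ha ha1 b hb hb1 hba.symm]
  exact inf_le_left

end Family

/-- **The join meets `C(a)` in `θ a`.** -/
theorem join_inf_centralizer : ∀ (n : ℕ) {A : Subgroup G} {θ : G → Subgroup G} {P D : Subgroup G},
    Nat.card P = n → Family A θ P D → ∀ a ∈ A, a ≠ 1 → ∀ x ∈ join A θ, Commute x a → x ∈ θ a := by
  intro n
  induction n using Nat.strong_induction_on with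
  | _ n ih =>
  intro A θ P D hn f a ha ha1 x hx hxa
  have hWP : join A θ ≤ P := join_le f.le
  by_cases hWlt : join A θ < P
  · have f' := f.restrict hWP f.norm_join
    have hlt : Nat.card (join A θ) < n := hn ▸ lt_of_le_of_ne (card_le_of_le hWP)
      fun e => hWlt.ne (eq_of_le_of_card_ge hWP e.ge)
    have hj : join A (fun a => θ a ⊓ join A θ) = join A θ :=
      le_antisymm (join_le fun b hb hb1 => inf_le_right)
        (join_le fun b hb hb1 => le_trans (le_inf le_rfl (le_join hb hb1)) (le_join (θ := fun a => θ a ⊓ join A θ) hb hb1))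
    exact (ih _ hlt rfl f' a ha ha1 x (hj.symm ▸ hx) hxa).1
  have hWeq : join A θ = P := eq_of_le_of_not_lt hWP hWlt
  by_cases hP1 : P = ⊥
  · rw [hWeq, hP1, mem_bot] at hx
    subst hx
    exact one_mem _
  -- the derived group
  set K := ⁅P, P⁆ with hK
  have hKP : K ≤ P := commutator_le_self P
  have hKlt : K < P := by
    haveI : Group.IsSolvable P := CfsgLib.OddLocal.FTFinal.odd_order_solvable f.odd
    haveI : Nontrivial P := (nontrivial_iff_ne_bot P).2 hP1
    refine lt_of_le_of_ne hKP fun e => ?_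
    refine (Group.IsSolvable.commutator_lt_top_of_nontrivial (G := P)).ne ?_
    apply map_injective P.subtype_injective
    rw [map_subtype_commutator, ← MonoidHom.range_eq_map, range_subtype]
    exact e
  have hNK : normalizer (P : Set G) ≤ normalizer (K : Set G) := fun g hg => by
    refine mem_normalizer_iff_map_conj_eq.2 ?_
    rw [hK, map_commutator, mem_normalizer_iff_map_conj_eq.1 hg]
  have fK := f.restrict hKP (f.norm.trans hNK)
  have hKn : ∀ p ∈ P, ∀ k ∈ K, p * k * p⁻¹ ∈ K := fun p hp k hk =>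
    (mem_normalizer_iff.1 (hNK (le_normalizer hp)) k).1 hk
  have hlt : Nat.card K < n := hn ▸ lt_of_le_of_ne (card_le_of_le hKP)
    fun e => hKlt.ne (eq_of_le_of_card_ge hKP e.ge)
  set θK : G → Subgroup G := fun a => θ a ⊓ K with hθK
  set J := join A θK with hJ
  have hind : ∀ b ∈ A, b ≠ 1 → ∀ y ∈ J, Commute y b → y ∈ θK b := fun b hb hb1 y hy hyb =>
    ih _ hlt rfl fK b hb hb1 y hy hyb
  have hJK : J ≤ K := join_le fun _ _ _ => inf_le_right
  have hAJ : A ≤ normalizer (J : Set G) := fK.norm_join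
  -- `K` is covered by `J` and the centralizer of `A`
  have hcen : ∀ z ∈ K, (∀ b ∈ A, Commute z b) → z ∈ normalizer (J : Set G) := fun z hz hzA =>
    mem_normalizer_join fun b hb hb1 y hy => le_join hb hb1
      (⟨f.normal b hb hb1 z (hKP hz) (hzA b hb) y hy.1, K.mul_mem (K.mul_mem hz hy.2) (K.inv_mem hz)⟩ :
        z * y * z⁻¹ ∈ θK b)
  have hcover : K ≤ (K ⊓ centralizer (A : Set G)) ⊔ J := by
    obtain ⟨b, hb, hb1, hba, hab1, -⟩ := f.exists_three ha ha1
    refine CfsgLib.Bender.le_of_four_centralizers (f.odd.of_dvd_nat (card_dvd_of_le hKP))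
      (CfsgLib.Signalizer.orderOf_eq_two_of ha1 (f.sq a ha))
      (CfsgLib.Signalizer.orderOf_eq_two_of hb1 (f.sq b hb)) (f.comm_A ha hb) hba.symm
      (fK.norm ha) (fK.norm hb) fun y hy c hc hyc => ?_
    have hcA : c ∈ A := by
      rcases hc with rfl | rfl | rfl
      exacts [ha, hb, mul_mem ha hb]
    have hc1 : c ≠ 1 := by
      rcases hc with rfl | rfl | rfl
      exacts [ha1, hb1, hab1]
    obtain ⟨d, hd, hd1, hdc, -, hall⟩ := f.exists_three hcA hc1
    obtain ⟨z, hz, hzd, w, hw, -, rfl⟩ := exists_split (f.odd.of_dvd_nat (card_dvd_of_le hKP)) (f.sq d hd) hy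
      (fun v hv => by
        have := (mem_normalizer_iff.1 (fK.norm hd) v).1 hv
        rwa [f.inv_eq hd] at this)
    have hwJ : w ∈ θK c := (zpowers_le.2 (fK.comm' hcA hc1 hy hyc hd)) hw
    have hzc : Commute z c := by
      have := (show Commute (z * w) c from hyc).mul_left (f.fix c hcA hc1 w hwJ.1).inv_left
      rwa [mul_inv_cancel_right] at this
    refine mul_mem (mem_sup_left ⟨hz, mem_centralizer_iff.2 fun e he => ?_⟩) (mem_sup_right (le_join hcA hc1 hwJ))
    by_cases he1 : e = 1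
    · simp [he1]
    rcases hall e he he1 with rfl | rfl | rfl
    exacts [hzc.symm.eq, hzd.symm.eq, (hzc.mul_right hzd).symm.eq]
  have hKJ : ∀ k ∈ K, ∀ b ∈ A, k * b * k⁻¹ * b⁻¹ ∈ J := by
    intro k hk b hb
    have hnJ : K ⊓ centralizer (A : Set G) ≤ normalizer (J : Set G) := fun z hz =>
      hcen z hz.1 fun e he => (mem_centralizer_iff.1 hz.2 e he).symm
    obtain ⟨z, hz, j, hj, rfl⟩ := (Core.mem_sup_iff_mul hnJ).1 (hcover hk)
    have hzb : Commute z b := (mem_centralizer_iff.1 hz.2 b hb).symm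
    have hzJ := hcen z hz.1 fun e he => (mem_centralizer_iff.1 hz.2 e he).symm
    rw [show z * j * b * (z * j)⁻¹ * b⁻¹ = z * (j * (b * j⁻¹ * b⁻¹)) * (b * z⁻¹ * b⁻¹) by group,
      hzb.symm.inv_right.eq, mul_inv_cancel_right]
    exact (mem_normalizer_iff.1 hzJ _).1 (J.mul_mem hj ((mem_normalizer_iff.1 (hAJ hb) _).1 (J.inv_mem hj)))
  -- `J` is normal
  have hPJ : P ≤ normalizer (J : Set G) := by
    rw [← hWeq]
    refine join_le fun b hb hb1 p hp => ?_
    set J' := Subgroup.closure ({y | ∃ k ∈ K, y = k * b * k⁻¹ * b⁻¹} ∪ (θK b : Set G)) with hJ'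
    have h1 : J' ≤ J := by
      rw [hJ', Subgroup.closure_le]
      rintro y (⟨k, hk, rfl⟩ | hy)
      · exact hKJ k hk b hb
      · exact le_join hb hb1 hy
    have h2 : J ≤ J' := join_le fun c hc hc1 y hy => by
      by_cases hcb : c = b
      · exact Subgroup.subset_closure (Or.inr (hcb ▸ hy))
      have hyK : y ∈ K := hy.2
      obtain ⟨z, hz, hzb, w, hw, -, rfl⟩ := exists_split ((fK.odd).of_dvd_nat (card_dvd_of_le (fK.le c hc hc1)))
        (f.sq b hb) hy (fun v hv => fK.invariant hc hc1 hb hv)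
      have hsJ : (z * w)⁻¹ * (b * (z * w) * b) ∈ J' :=
        Subgroup.subset_closure (Or.inl ⟨(z * w)⁻¹, K.inv_mem hyK, by
          rw [inv_inv, f.inv_eq hb]; simp only [mul_assoc]⟩)
      refine mul_mem (Subgroup.subset_closure (Or.inr ⟨?_, hz.2⟩)) ((zpowers_le.2 hsJ) hw)
      · exact f.le_meet hb hb1 ((f.meet c hc hc1 b hb hb1 hcb).le ⟨hz.1, mem_centralizer_singleton_iff.2 hzb.eq⟩)
    have hJJ : J = J' := le_antisymm h2 h1
    rw [hJJ]
    have hpP := f.le b hb hb1 hp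
    have hpb := f.fix b hb hb1 p hp
    refine mem_normalizer_fintype fun y hy => ?_
    refine (show J' ≤ J'.comap (MulAut.conj p).toMonoidHom from ?_) hy
    rw [hJ', Subgroup.closure_le]
    rintro y (⟨k, hk, rfl⟩ | hy)
    · refine Subgroup.subset_closure (Or.inl ⟨p * k * p⁻¹, hKn p hpP k hk, ?_⟩)
      show p * (k * b * k⁻¹ * b⁻¹) * p⁻¹ = _
      conv_rhs => rw [show b = p * b * p⁻¹ by rw [hpb.eq, mul_inv_cancel_right]]
      group
    · exact Subgroup.subset_closure (Or.inr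
        ⟨f.normal b hb hb1 p hpP hpb y hy.1, hKn p hpP y hy.2⟩)
  -- modulo `J`
  obtain ⟨b, hb, hb1, hba, hab1, hall⟩ := f.exists_three ha ha1
  set N := normalizer (J : Set G) with hN
  haveI : (J.subgroupOf N).Normal := normal_in_normalizer
  set π := QuotientGroup.mk' (J.subgroupOf N) with hπ
  have hker : ∀ y : N, π y = 1 ↔ (y : G) ∈ J := fun y => by
    rw [hπ, QuotientGroup.mk'_apply, QuotientGroup.eq_one_iff]; rfl
  set a' : N := ⟨a, hAJ ha⟩
  set b' : N := ⟨b, hAJ hb⟩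
  set PN := P.subgroupOf N with hPN
  have hPodd : Odd (Nat.card (PN.map π)) := f.odd.of_dvd_nat ((PN.card_map_dvd π).trans
    (Nat.card_congr (subgroupOfEquivOfLe hPJ).toEquiv).dvd)
  have hPinvol : ∀ c ∈ A, c ≠ 1 → ∀ hcN : c ∈ N, π ⟨c, hcN⟩ ≠ 1 := fun c hc hc1 hcN h => by
    have hcP : c ∈ P := hKP (hJK ((hker _).1 h))
    exact hc1 (CfsgLib.ZStar.eq_one_of_odd_of_sq (f.odd.of_dvd_nat (P.orderOf_dvd_natCard hcP))
      (by rw [pow_two]; exact f.sq c hc))
  have hinj : ∀ c ∈ A, ∀ d ∈ A, ∀ (hcN : c ∈ N) (hdN : d ∈ N), π ⟨c, hcN⟩ = π ⟨d, hdN⟩ → c = d := by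
    intro c hc d hd hcN hdN h
    by_contra hcd
    refine hPinvol (c * d) (mul_mem hc hd) (fun e => hcd ?_) (mul_mem hcN hdN) ?_
    · rw [eq_inv_of_mul_eq_one_left e, f.inv_eq hd]
    · rw [show (⟨c * d, mul_mem hcN hdN⟩ : N) = ⟨c, hcN⟩ * ⟨d, hdN⟩ from rfl, map_mul, h, ← map_mul,
        show (⟨d, hdN⟩ : N) * ⟨d, hdN⟩ = 1 from Subtype.ext (f.sq d hd), map_one]
  let T : N ⧸ J.subgroupOf N → Subgroup (N ⧸ J.subgroupOf N) := fun q =>
    (((⨆ c : {c : G // c ∈ A ∧ c ≠ 1 ∧ ∃ hcN : c ∈ N, π ⟨c, hcN⟩ = q}, θ c)).subgroupOf N).map π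
  have hT : ∀ c (hc : c ∈ A), c ≠ 1 → T (π ⟨c, hAJ hc⟩) = ((θ c).subgroupOf N).map π := by
    intro c hc hc1
    refine congrArg (fun X : Subgroup G => (X.subgroupOf N).map π) (le_antisymm (iSup_le ?_) ?_)
    · rintro ⟨d, hd, hd1, hdN, he⟩
      obtain rfl := hinj d hd c hc hdN (hAJ hc) he
      exact le_rfl
    · exact le_iSup (fun c' : {c' : G // c' ∈ A ∧ c' ≠ 1 ∧ ∃ hcN : c' ∈ N, π ⟨c', hcN⟩ = π ⟨c, hAJ hc⟩} => θ c')
        ⟨c, hc, hc1, hAJ hc, rfl⟩
  have hidx : ∀ i, i = π a' ∨ i = π b' ∨ i = π a' * π b' → ∃ c, ∃ hc : c ∈ A, c ≠ 1 ∧ i = π ⟨c, hAJ hc⟩ := by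
    rintro i (rfl | rfl | rfl)
    · exact ⟨a, ha, ha1, rfl⟩
    · exact ⟨b, hb, hb1, rfl⟩
    · exact ⟨a * b, mul_mem ha hb, hab1, by rw [← map_mul]; rfl⟩
  -- congruences are realised inside `θ c`
  have hlift : ∀ c (hc : c ∈ A), c ≠ 1 → ∀ d (hd : d ∈ A), ∀ y : N, (y : G) ∈ θ c →
      Commute (π y) (π ⟨d, hAJ hd⟩) → ∃ z ∈ θ c, Commute z d ∧ ∃ hz : z ∈ N, π ⟨z, hz⟩ = π y := by
    intro c hc hc1 d hd y hy hyd
    obtain ⟨z, hz, hzd, w, hw, -, he⟩ := exists_split (f.odd.of_dvd_nat (card_dvd_of_le (f.le c hc hc1)))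
      (f.sq d hd) hy (fun v hv => f.invariant hc hc1 hd hv)
    refine ⟨z, hz, hzd, hPJ (f.le c hc hc1 hz), ?_⟩
    have hwJ : w ∈ J := by
      refine (zpowers_le.2 ((hker (y⁻¹ * (⟨d, hAJ hd⟩ * y * ⟨d, hAJ hd⟩))).1 ?_)) hw
      rw [map_mul, map_inv, map_mul, map_mul, ← hyd.eq, mul_assoc (π y), ← map_mul,
        show (⟨d, hAJ hd⟩ : N) * ⟨d, hAJ hd⟩ = 1 from Subtype.ext (f.sq d hd), map_one, mul_one,
        inv_mul_cancel]
    have : y = ⟨z, hPJ (f.le c hc hc1 hz)⟩ * ⟨w, le_normalizer hwJ⟩ := Subtype.ext he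
    rw [this, map_mul, (hker _).2 (show ((⟨w, le_normalizer hwJ⟩ : N) : G) ∈ J from hwJ), mul_one]
  have hflat : Flat (π a') (π b') T (PN.map π) := by
    refine ⟨hPodd, ?_, ?_, ?_, ?_, ?_, ?_, ?_⟩
    · intro i hi
      obtain ⟨c, hc, hc1, rfl⟩ := hidx i hi
      rw [← map_mul, show (⟨c, hAJ hc⟩ : N) * ⟨c, hAJ hc⟩ = 1 from Subtype.ext (f.sq c hc), map_one]
    · intro i hi
      obtain ⟨c, hc, hc1, rfl⟩ := hidx i hi
      rw [hT c hc hc1]
      exact map_mono fun y hy => f.le c hc hc1 hy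
    · intro i hi y hy
      obtain ⟨c, hc, hc1, rfl⟩ := hidx i hi
      rw [hT c hc hc1] at hy
      obtain ⟨y, hy, rfl⟩ := hy
      exact Commute.map (show Commute y ⟨c, hAJ hc⟩ from Subtype.ext (f.fix c hc hc1 _ hy).eq) π
    · intro i hi j hj y hy
      obtain ⟨c, hc, hc1, rfl⟩ := hidx i hi
      obtain ⟨d, hd, hd1, rfl⟩ := hidx j hj
      rw [hT c hc hc1] at hy ⊢
      obtain ⟨y, hy, rfl⟩ := hy
      exact ⟨⟨d, hAJ hd⟩ * y * ⟨d, hAJ hd⟩, f.invariant hc hc1 hd hy, by rw [map_mul, map_mul]⟩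
    · intro i hi y hy z hz
      obtain ⟨c, hc, hc1, rfl⟩ := hidx i hi
      rw [hT c hc hc1] at hy hz
      obtain ⟨y, hy, rfl⟩ := hy
      obtain ⟨z, hz, rfl⟩ := hz
      refine commutatorElement_eq_one_iff_commute.1 ?_
      rw [← map_commutatorElement, hker]
      exact le_join hc hc1 (show ((⁅y, z⁆ : N) : G) ∈ θK c from
        ⟨(θ c).mul_mem ((θ c).mul_mem ((θ c).mul_mem hy hz) ((θ c).inv_mem hy)) ((θ c).inv_mem hz),
          commutator_mem_commutator (f.le c hc hc1 hy) (f.le c hc hc1 hz)⟩)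
    · intro y hy z hz i hi
      obtain ⟨c, hc, hc1, rfl⟩ := hidx i hi
      obtain ⟨y, hy, rfl⟩ := hy
      obtain ⟨z, hz, rfl⟩ := hz
      refine commutatorElement_eq_one_iff_commute.1 ?_
      rw [← map_commutatorElement, ← map_commutatorElement, hker]
      exact hKJ _ (commutator_mem_commutator (G := G) hy hz) c hc
    · intro i hi j hj hij y hy hyj k hk
      obtain ⟨c, hc, hc1, rfl⟩ := hidx i hi
      obtain ⟨d, hd, hd1, rfl⟩ := hidx j hj
      obtain ⟨e, he, he1, rfl⟩ := hidx k hk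
      rw [hT c hc hc1] at hy
      obtain ⟨y, hy, rfl⟩ := hy
      obtain ⟨z, hz, hzd, hzN, hzy⟩ := hlift c hc hc1 d hd y hy hyj
      rw [hT e he he1, ← hzy]
      refine mem_map_of_mem π (show z ∈ θ e from f.le_meet he he1 ?_)
      rw [← f.meet c hc hc1 d hd hd1 (fun h => hij (by subst h; rfl))]
      exact ⟨hz, mem_centralizer_singleton_iff.2 hzd.eq⟩
  have hxP : x ∈ P := hWP hx
  have hsup : PN.map π ≤ T (π a') ⊔ T (π b') ⊔ T (π a' * π b') := by
    have hTab : T (π a' * π b') = ((θ (a * b)).subgroupOf N).map π := by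
      rw [← map_mul]; exact hT (a * b) (mul_mem ha hb) hab1
    rw [hT a ha ha1, hT b hb hb1, hTab, ← Subgroup.map_sup, ← Subgroup.map_sup]
    refine map_mono ?_
    rw [← subgroupOf_sup ((f.le a ha ha1).trans hPJ) ((f.le b hb hb1).trans hPJ),
      ← subgroupOf_sup (sup_le ((f.le a ha ha1).trans hPJ) ((f.le b hb hb1).trans hPJ))
        ((f.le _ (mul_mem ha hb) hab1).trans hPJ)]
    intro y hy
    show (y : G) ∈ θ a ⊔ θ b ⊔ θ (a * b)
    refine (?_ : P ≤ θ a ⊔ θ b ⊔ θ (a * b)) hy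
    rw [← hWeq]
    refine join_le fun c hc hc1 => ?_
    rcases hall c hc hc1 with rfl | rfl | rfl
    exacts [le_sup_of_le_left le_sup_left, le_sup_of_le_left le_sup_right, le_sup_right]
  have hmain := hflat.mem_of_commute
    (Commute.map (show Commute a' b' from Subtype.ext (f.comm_A ha hb).eq) π) (hPinvol a ha ha1 _)
    (hPinvol b hb hb1 _) (fun h => hba (hinj b hb a ha _ _ h.symm))
    (hsup (mem_map_of_mem π (show (⟨x, hPJ hxP⟩ : N) ∈ PN from hxP)))
    (Commute.map (show Commute (⟨x, hPJ hxP⟩ : N) a' from Subtype.ext hxa.eq) π)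
  rw [hT a ha ha1] at hmain
  obtain ⟨t, ht, hte⟩ := hmain
  have hj : (t : G)⁻¹ * x ∈ J := (hker (t⁻¹ * ⟨x, hPJ hxP⟩)).1 (by rw [map_mul, map_inv, hte, inv_mul_cancel])
  have h2 := (hind a ha ha1 _ hj ((f.fix a ha ha1 _ ht).inv_left.mul_left hxa)).1
  have h3 := mul_mem (show (t : G) ∈ θ a from ht) h2
  rwa [mul_inv_cancel_left] at h3

end Main

end CfsgLib.Goldschmidt.RankTwoCase
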