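import Cfsg.Agent.Lib.Invol.Goldschmidt.RankTwoCase.Basic
import Cfsg.Agent.Lib.Invol.Goldschmidt.RankTwoCase.CoprimePair
import Cfsg.Agent.S0217

/-!
Owner: helper18.  Slice VI of S1169: an involution `u ∉ A` whose coset is balanced gives a signalizer
functor on `⟨A, u⟩`, and so a proper subgroup containing all `C(a)`, `a ∈ A#`.
-/

set_option autoImplicit false
set_option linter.unusedSectionVars false
set_option linter.style.haveILetI false

namespace CfsgLib.Goldschmidt.RankTwoCase

open Subgroup
open CfsgLib.FTDep (coreCent coreCent_le coreCent_norm coreCent_odd)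

universe u

variable {G : Type u} [Group G] [Finite G]

/-- The coset `u A` is balanced. -/
def Good (A : Subgroup G) (u : G) : Prop :=
  ∀ a ∈ A, a ≠ 1 → ∀ e : G, u⁻¹ * e ∈ A → ∀ x ∈ coreCent ({a} : Set G), Commute x e →
    x ∈ coreCent ({e} : Set G)

namespace Case

variable {S : Sylow 2 G} {A : Subgroup G} (c : Case S A)
include c

/-- **No coset is balanced.** -/
theorem false_of_good (hmain : CfsgLib.AschCrit.Main.{u}) {u : G} (hu : u ∈ (S : Subgroup G))
    (hu2 : u * u = 1) (huA : u ∉ A) (hgood : Good A u) : False := by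
  classical
  haveI : Fact (Nat.Prime 2) := ⟨Nat.prime_two⟩
  haveI := c.set.simple
  set E := A ⊔ zpowers u with hE
  have hAu : A ≤ normalizer (zpowers u : Set G) := fun a ha => mem_normalizer_fintype fun y hy => by
    obtain ⟨i, rfl⟩ := mem_zpowers_iff.1 hy
    rw [((c.central ha hu).zpow_right i).eq, mul_inv_cancel_right]
    exact hy
  have hpow : ∀ y ∈ zpowers u, y = 1 ∨ y = u := fun y hy => by
    obtain ⟨i, rfl⟩ := mem_zpowers_iff.1 hy
    rcases Int.even_or_odd i with ⟨j, rfl⟩ | ⟨j, rfl⟩
    · left; rw [← two_mul, zpow_mul, zpow_two, hu2, one_zpow]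
    · right; rw [zpow_add, zpow_mul, zpow_two, hu2, one_zpow, one_mul, zpow_one]
  have hEmem : ∀ y ∈ E, y ∈ A ∨ u⁻¹ * y ∈ A := fun y hy => by
    obtain ⟨a, ha, z, hz, rfl⟩ := (Core.mem_sup_iff_mul hAu).1 hy
    rcases hpow z hz with rfl | rfl
    · left; rwa [mul_one]
    · right; rwa [(c.central ha hu).eq, inv_mul_cancel_left]
  have hES : E ≤ (S : Subgroup G) := sup_le c.le (zpowers_le.2 hu)
  have hEA : ∀ y ∈ E, ∀ a ∈ A, Commute a y := fun y hy a ha => c.central ha (hES hy)
  have hEcomm : ∀ y ∈ E, ∀ z ∈ E, Commute y z := fun y hy z hz => by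
    rcases hEmem y hy with h | h
    · exact hEA z hz y h
    rcases hEmem z hz with h' | h'
    · exact (hEA y hy z h').symm
    rw [show y = u * (u⁻¹ * y) by group, show z = u * (u⁻¹ * z) by group]
    exact ((Commute.refl u).mul_right (c.central h' hu).symm).mul_left
      ((c.central h hu).mul_right (c.comm h h'))
  have hEsq : ∀ y ∈ E, y ^ 2 = 1 := fun y hy => by
    rw [pow_two]
    rcases hEmem y hy with h | h
    · exact c.sq y h
    · rw [show y * y = u * ((u⁻¹ * y) * u) * (u⁻¹ * y) by group, (c.central h hu).eq, ← mul_assoc u u, hu2,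
        one_mul, c.sq _ h]
  let θ : G → Subgroup G := fun y => if y ∈ A then coreCent ({y} : Set G)
    else join A (fun a => coreCent ({a} : Set G) ⊓ centralizer ({y} : Set G))
  have hθA : ∀ y ∈ A, θ y = coreCent ({y} : Set G) := fun y hy => if_pos hy
  have hθo : ∀ y, y ∉ A → θ y = join A (fun a => coreCent ({a} : Set G) ⊓ centralizer ({y} : Set G)) :=
    fun y hy => if_neg hy
  have hout : ∀ y ∈ E, y ∉ A → u⁻¹ * y ∈ A := fun y hy h => (hEmem y hy).resolve_left h
  have hle : ∀ y ∈ E, θ y ≤ coreCent ({y} : Set G) := by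
    intro y hy
    by_cases h : y ∈ A
    · rw [hθA y h]
    · rw [hθo y h]
      exact join_le fun a ha ha1 x hx =>
        hgood a ha ha1 y (hout y hy h) x hx.1 (mem_centralizer_singleton_iff.1 hx.2)
  have hne1 : ∀ y, y ∉ A → y ≠ 1 := fun y h e => h (e ▸ one_mem A)
  have hfam : ∀ y ∈ E, y ∉ A → Family A (fun a => coreCent ({a} : Set G) ⊓ centralizer ({y} : Set G))
      (coreCent ({y} : Set G)) (coreCent (A : Set G) ⊓ centralizer ({y} : Set G)) := by
    intro y hy hyA
    exact {
      card := c.card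
      sq := c.sq
      odd := coreCent_odd _
      norm := fun a ha => coreCent_norm _ (mem_centralizer_singleton_iff.2 (hEA y hy a ha).eq)
      le := fun a ha ha1 x hx => hgood a ha ha1 y (hout y hy hyA) x hx.1 (mem_centralizer_singleton_iff.1 hx.2)
      fix := fun a _ _ x hx => mem_centralizer_singleton_iff.1 (coreCent_le _ hx.1)
      normal := fun a _ _ x hx hxa z hz =>
        ⟨(mem_normalizer_iff.1 (coreCent_norm _ (mem_centralizer_singleton_iff.2 hxa.eq)) z).1 hz.1,
          (centralizer ({y} : Set G)).mul_mem ((centralizer ({y} : Set G)).mul_mem (coreCent_le _ hx) hz.2)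
            ((centralizer ({y} : Set G)).inv_mem (coreCent_le _ hx))⟩
      comm := fun a ha ha1 x hx hxa b hb => ⟨c.comm_mem_core ha ha1 hxa hb, by
        have hbc : b ∈ centralizer ({y} : Set G) := mem_centralizer_singleton_iff.2 (hEA y hy b hb).eq
        exact (centralizer ({y} : Set G)).mul_mem ((centralizer ({y} : Set G)).mul_mem
          ((centralizer ({y} : Set G)).mul_mem (coreCent_le _ hx) hbc)
          ((centralizer ({y} : Set G)).inv_mem (coreCent_le _ hx))) ((centralizer ({y} : Set G)).inv_mem hbc)⟩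
      meet := fun a ha ha1 b hb hb1 hab => by
        rw [inf_right_comm, c.meet ha ha1 hb hb1 hab] }
  have hbal : ∀ y ∈ E, y ≠ 1 → ∀ z ∈ E, z ≠ 1 → θ y ⊓ centralizer ({z} : Set G) ≤ θ z := by
    intro y hy hy1 z hz hz1 x ⟨hx, hxz⟩
    have hxz' : Commute x z := mem_centralizer_singleton_iff.1 hxz
    by_cases hyA : y ∈ A
    · rw [hθA y hyA] at hx
      by_cases hzA : z ∈ A
      · rw [hθA z hzA]; exact c.core_inf_le hyA hy1 hzA hz1 ⟨hx, hxz⟩
      · rw [hθo z hzA]; exact le_join hyA hy1 ⟨hx, hxz⟩
    · by_cases hzA : z ∈ A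
      · rw [hθA z hzA]
        rw [hθo y hyA] at hx
        exact (join_inf_centralizer _ rfl (hfam y hy hyA) z hzA hz1 x hx hxz').1
      · by_cases hyz : y = z
        · exact hyz ▸ hx
        have hxy : Commute x y := mem_centralizer_singleton_iff.1 (coreCent_le _ (hle y hy hx))
        have ha : y * z ∈ A := by
          have h1 := mul_mem (inv_mem (hout y hy hyA)) (hout z hz hzA)
          rw [show (u⁻¹ * y)⁻¹ * (u⁻¹ * z) = y⁻¹ * z by group,
            show y⁻¹ = y from inv_eq_of_mul_eq_one_right ((pow_two y).symm.trans (hEsq y hy))] at h1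
          exact h1
        have ha1 : y * z ≠ 1 := fun h => hyz (by
          rw [eq_inv_of_mul_eq_one_left h]
          exact inv_eq_of_mul_eq_one_right ((pow_two z).symm.trans (hEsq z hz)))
        rw [hθo y hyA] at hx
        have h2 := (join_inf_centralizer _ rfl (hfam y hy hyA) (y * z) ha ha1 x hx (hxy.mul_right hxz')).1
        rw [hθo z hzA]
        exact le_join ha ha1 ⟨h2, hxz⟩
  have hcard : 2 ^ 3 ≤ Nat.card E := by
    by_contra hlt
    have h1 : A < E := lt_of_le_not_ge le_sup_left fun h => huA (h (mem_sup_right (mem_zpowers u)))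
    obtain ⟨k, hk⟩ := card_dvd_of_le h1.le
    have h2 : Nat.card A ≠ Nat.card E := fun e => h1.ne (eq_of_le_of_card_ge h1.le e.ge)
    rw [c.card] at hk h2
    have h3 : k = 0 ∨ k = 1 := by omega
    rcases h3 with rfl | rfl
    · exact absurd hk (by have := Nat.card_pos (α := E); omega)
    · omega
  obtain ⟨hodd, -⟩ := Cfsg.Agent.S0217.result (p := 2) E (fun y hy z hz => (hEcomm y hy z hz).eq) hEsq hcard θ
    (fun y hy _ => (hle y hy).trans (coreCent_le _))
    (fun y hy _ h => (Nat.not_even_iff_odd.2 ((coreCent_odd ({y} : Set G)).of_dvd_nat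
      (card_dvd_of_le (hle y hy)))) (even_iff_two_dvd.2 h))
    (fun y hy _ z hz x hx => by
      have hzy : z ∈ centralizer ({y} : Set G) := mem_centralizer_singleton_iff.2 (hEcomm z hz y hy).eq
      by_cases hyA : y ∈ A
      · rw [hθA y hyA] at hx ⊢
        exact (mem_normalizer_iff.1 (coreCent_norm _ hzy) x).1 hx
      · rw [hθo y hyA] at hx ⊢
        have : z ∈ normalizer (join A (fun a => coreCent ({a} : Set G) ⊓ centralizer ({y} : Set G)) : Set G) :=
          mem_normalizer_join fun a ha ha1 w hw => le_join ha ha1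
            (⟨(mem_normalizer_iff.1 (coreCent_norm _ (mem_centralizer_singleton_iff.2 (hEA z hz a ha).symm.eq)) w).1
                hw.1,
              (centralizer ({y} : Set G)).mul_mem ((centralizer ({y} : Set G)).mul_mem hzy hw.2)
                ((centralizer ({y} : Set G)).inv_mem hzy)⟩ :
              z * w * z⁻¹ ∈ coreCent ({a} : Set G) ⊓ centralizer ({y} : Set G))
        exact (mem_normalizer_iff.1 this x).1 hx)
    (fun y hy _ => CfsgLib.OddLocal.FTFinal.odd_order_solvable
      ((coreCent_odd ({y} : Set G)).of_dvd_nat (card_dvd_of_le (hle y hy))))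
    hbal
  set W := join A (fun a => coreCent ({a} : Set G)) with hW
  have hWle : W ≤ ⨆ y : {y : G // y ∈ E ∧ y ≠ 1}, θ y := join_le fun a ha ha1 => by
    rw [← hθA a ha]
    exact le_iSup (fun y : {y : G // y ∈ E ∧ y ≠ 1} => θ y) ⟨a, mem_sup_left ha, ha1⟩
  by_cases hWb : W = ⊥
  · refine c.false_of_contains hmain c.normalizer_ne_top fun a ha ha1 g hg => ?_
    obtain ⟨o, ho, d, hd, rfl⟩ := c.exists_core_mul ha ha1 (mem_centralizer_singleton_iff.1 hg)
    have ho1 : o ∈ W := le_join ha ha1 ho
    rw [hWb, mem_bot] at ho1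
    rw [ho1, one_mul]
    exact centralizer_le_normalizer _ hd
  · refine c.false_of_contains hmain (M := normalizer (W : Set G)) (fun h => ?_) fun a ha ha1 g hg => ?_
    · haveI : W.Normal := normalizer_eq_top_iff.1 h
      rcases (inferInstance : W.Normal).eq_bot_or_eq_top with h' | h'
      · exact hWb h'
      · refine hodd ((dvd_trans ?_ (card_dvd_of_le hWle)))
        rw [h', Subgroup.card_top]
        obtain ⟨a, ha, ha1⟩ := c.exists_ne_one
        exact c.orderOf_eq ha ha1 ▸ orderOf_dvd_natCard a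
    · obtain ⟨o, ho, d, hd, rfl⟩ := c.exists_core_mul ha ha1 (mem_centralizer_singleton_iff.1 hg)
      exact mul_mem (le_normalizer (le_join ha ha1 ho)) (mem_normalizer_join fun b hb hb1 x hx => le_join hb hb1
        ((mem_normalizer_iff.1 (coreCent_norm _ (c.centralizer_le hb hd)) x).1 hx))

end Case

end CfsgLib.Goldschmidt.RankTwoCase
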