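import Cfsg.Agent.Lib.TwoFusion.ProductFusion.Setup
import Cfsg.Agent.Lib.ZStar.Main
import Cfsg.Agent.Lib.Core.Coprime

/-!
Owner: helper18.  Slice VI of S1169: a group without odd core with a central strongly closed four-group `A`.
Either `A` is normal, or its normal closure is perfect with simple central quotient.

* `Sec`: the hypotheses; `normalClosure_perfect`, `quot_simple`.
* `eq_bot_of_normal`, `eq_bot_of_locBal`: an odd subgroup of `C(a)` normalised by `C(a)` is trivial.
-/

set_option autoImplicit false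
set_option linter.unusedSectionVars false
set_option linter.style.haveILetI false

namespace CfsgLib.Goldschmidt.RankTwoCase

open Subgroup
open scoped commutatorElement
open CfsgLib.Signalizer (orderOf_eq_two_of)

universe u

variable {X : Type u} [Group X] [Finite X]

/-- A group without odd core and a central strongly closed four-group. -/
structure Sec (T : Sylow 2 X) (A : Subgroup X) : Prop where
  core : Cfsg.oddCore X = ⊥
  card : Nat.card A = 4
  sq : ∀ a ∈ A, a * a = 1
  central : ∀ a ∈ A, ∀ t ∈ (T : Subgroup X), Commute a t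
  closed : Cfsg.IsStronglyClosed A (T : Subgroup X)

/-- The intersection of a Sylow subgroup with a normal subgroup is one of the normal subgroup. -/
theorem exists_sylow_of_normal (T : Sylow 2 X) (N : Subgroup X) [N.Normal] :
    ∃ Q : Sylow 2 N, (Q : Subgroup N) = (T : Subgroup X).subgroupOf N := by
  haveI := Fact.mk Nat.prime_two
  obtain ⟨Q, hQ⟩ := CfsgLib.LocalEven.exists_sylow_inf T N
  refine ⟨Q, map_injective N.subtype_injective ?_⟩
  rw [hQ, subgroupOf_map_subtype]

/-- A normal subgroup with a central Sylow 2-subgroup and no odd normal subgroup is a 2-group. -/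
theorem le_sylow_of_central (T : Sylow 2 X) (hO : Cfsg.oddCore X = ⊥) (N : Subgroup X) [hN : N.Normal]
    (hc : ∀ r ∈ N, r ∈ (T : Subgroup X) → ∀ n ∈ N, Commute r n) : N ≤ (T : Subgroup X) := by
  haveI := Fact.mk Nat.prime_two
  obtain ⟨Q, hQ⟩ := exists_sylow_of_normal T N
  have hcen : ∀ q ∈ (Q : Subgroup N), ∀ n : N, Commute q n := fun q hq n => by
    rw [hQ] at hq
    exact Subtype.ext (hc q q.2 hq n n.2).eq
  haveI : (Q : Subgroup N).Normal := ⟨fun q hq n => by
    rw [show n * q * n⁻¹ = q by rw [← (hcen q hq n).eq, mul_inv_cancel_right]]; exact hq⟩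
  obtain ⟨i, hi⟩ := IsPGroup.iff_card.1 Q.2
  have hiodd : Odd (Q : Subgroup N).index :=
    Nat.not_even_iff_odd.1 fun h => Q.not_dvd_index (even_iff_two_dvd.1 h)
  obtain ⟨B, hB⟩ := exists_right_complement'_of_coprime (N := (Q : Subgroup N))
    (by rw [hi]; exact (Nat.coprime_two_left.2 hiodd).pow_left i)
  have hBodd : Odd (Nat.card B) := hB.symm.index_eq_card ▸ hiodd
  have hsplit : ∀ n : N, Odd (orderOf n) → n ∈ B := fun n hn => by
    obtain ⟨⟨⟨q, hq⟩, ⟨b, hb⟩⟩, e, -⟩ := hB.existsUnique n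
    change q * b = n at e
    have h1 : q ^ (orderOf n * Nat.card B) = 1 := by
      have h := (hcen q hq b).mul_pow (orderOf n * Nat.card B)
      rw [e, pow_mul n, pow_orderOf_eq_one, one_pow] at h
      rwa [show b ^ (orderOf n * Nat.card B) = 1 from
        orderOf_dvd_iff_pow_eq_one.1 ((B.orderOf_dvd_natCard hb).mul_left _), mul_one, eq_comm] at h
    have h2 : q = 1 := by
      obtain ⟨j, hj⟩ := IsPGroup.iff_orderOf.1 Q.2 ⟨q, hq⟩
      rw [Subgroup.orderOf_mk] at hj
      exact orderOf_eq_one_iff.1 (Nat.eq_one_of_dvd_coprimes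
        ((Nat.coprime_two_left.2 (hn.mul hBodd)).pow_left j) (hj ▸ dvd_rfl) (orderOf_dvd_of_pow_eq_one h1))
    rw [← e, h2, one_mul]
    exact hb
  haveI : (B.map N.subtype).Normal := ⟨by
    rintro _ ⟨b, hb, rfl⟩ g
    refine ⟨⟨g * b * g⁻¹, hN.conj_mem _ b.2 g⟩, hsplit _ ?_, rfl⟩
    rw [Subgroup.orderOf_mk, CfsgLib.Signalizer.orderOf_conj, Subgroup.orderOf_coe]
    exact hBodd.of_dvd_nat (B.orderOf_dvd_natCard hb)⟩
  have hBbot : B.map N.subtype = ⊥ := le_bot_iff.1 (hO ▸ CfsgLib.ZStar.le_oddCore inferInstance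
    (by rw [card_map_of_injective N.subtype_injective]; exact hBodd))
  intro x hx
  obtain ⟨⟨⟨q, hq⟩, ⟨b, hb⟩⟩, e, -⟩ := hB.existsUnique (⟨x, hx⟩ : N)
  change q * b = _ at e
  have hb1 : (b : X) ∈ B.map N.subtype := ⟨b, hb, rfl⟩
  rw [hBbot, mem_bot] at hb1
  have hb2 : b = 1 := Subtype.ext hb1
  rw [hb2, mul_one] at e
  subst e
  rw [hQ] at hq
  exact hq

namespace Sec

variable {T : Sylow 2 X} {A : Subgroup X} (h : Sec T A)
include h

theorem le : A ≤ (T : Subgroup X) := h.closed.1

theorem inv_eq {a : X} (ha : a ∈ A) : a⁻¹ = a := inv_eq_of_mul_eq_one_right (h.sq a ha)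

theorem comm {a b : X} (ha : a ∈ A) (hb : b ∈ A) : Commute a b := h.central a ha b (h.le hb)

theorem four {a b : X} (ha : a ∈ A) (hb : b ∈ A) (ha1 : a ≠ 1) (hb1 : b ≠ 1) (hab : a ≠ b) {x : X}
    (hx : x ∈ A) : x = 1 ∨ x = a ∨ x = b ∨ x = a * b := by
  classical
  haveI := Fintype.ofFinite A
  by_contra hne
  push Not at hne
  have h1 : a * b ≠ 1 := fun e => hab (by rw [eq_inv_of_mul_eq_one_left e, h.inv_eq hb])
  have h2 : a * b ≠ a := fun e => hb1 (mul_eq_left.1 e)
  have h3 : a * b ≠ b := fun e => ha1 (mul_eq_right.1 e)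
  let t : Finset A := {1, ⟨a, ha⟩, ⟨b, hb⟩, ⟨a * b, mul_mem ha hb⟩, ⟨x, hx⟩}
  have ht : t.card = 5 := by
    simp only [t]
    repeat rw [Finset.card_insert_of_notMem]
    · simp
    all_goals simp [Subtype.ext_iff, ha1.symm, hb1.symm, h1.symm, hab, h2.symm, h3.symm, hne.1.symm,
      hne.2.1.symm, hne.2.2.1.symm, hne.2.2.2.symm]
  have h4 := h.card
  have := t.card_le_univ
  rw [ht, ← Nat.card_eq_fintype_card, h4] at this
  omega

/-- An isolated involution of `A` makes `A` normal. -/
theorem normal_of_isolated {b : X} (hb : b ∈ A) (hb1 : b ≠ 1)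
    (hiso : ∀ g : X, g * b * g⁻¹ ∈ (T : Subgroup X) → g * b * g⁻¹ = b) : A.Normal := by
  haveI := Fact.mk Nat.prime_two
  have hbc : ∀ g : X, Commute b g := fun g => by
    have h1 := CfsgLib.ZStar.mem_oddCore_of_sylow T (orderOf_eq_two_of hb1 (h.sq b hb)) (h.le hb) hiso g
    rw [h.core, mem_bot] at h1
    exact mul_inv_eq_iff_eq_mul.1 (mul_inv_eq_one.1 h1)
  have key : ∀ a ∈ A, a ≠ 1 → a ≠ b → ∀ g : X, g * a * g⁻¹ ∈ (T : Subgroup X) → g * a * g⁻¹ = a := by
    intro a ha ha1 hab g hg
    have hgA := h.closed.2 a ha g hg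
    rcases h.four ha hb ha1 hb1 hab hgA with e | e | e | e
    · exact absurd (conj_eq_one_iff.1 e) ha1
    · exact e
    · refine absurd ?_ hab
      have : a = g⁻¹ * b * g := by rw [← e]; group
      rw [this, mul_assoc, (hbc g).eq, inv_mul_cancel_left]
    · -- Burnside's argument
      exfalso
      set Q := centralizer ({a * b} : Set X)
      have hTQ : (T : Subgroup X) ≤ Q := fun t ht =>
        mem_centralizer_singleton_iff.2 ((h.central a ha t ht).mul_left (h.central b hb t ht)).eq.symm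
      have hT'Q : ((g • T : Sylow 2 X) : Subgroup X) ≤ Q := by
        rintro _ ⟨t, ht, rfl⟩
        refine mem_centralizer_singleton_iff.2 ?_
        rw [← e]
        exact ((h.central a ha t ht).symm.map (MulAut.conj g).toMonoidHom).eq
      obtain ⟨k, hk⟩ := MulAction.exists_smul_eq Q ((g • T).subtype hT'Q) (T.subtype hTQ)
      set m := (k : X) * g with hm
      have hmT : ∀ t ∈ (T : Subgroup X), m * t * m⁻¹ ∈ (T : Subgroup X) := by
        intro t ht
        have hgt : g * t * g⁻¹ ∈ Q := hT'Q ⟨t, ht, rfl⟩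
        have h1 : k * ⟨g * t * g⁻¹, hgt⟩ * k⁻¹ ∈ ((T.subtype hTQ : Sylow 2 Q) : Subgroup Q) := by
          rw [← hk, Sylow.coe_subgroup_smul]
          exact ⟨⟨g * t * g⁻¹, hgt⟩, ⟨t, ht, rfl⟩, rfl⟩
        have h2 : (k : X) * (g * t * g⁻¹) * (k : X)⁻¹ ∈ (T : Subgroup X) := h1
        rwa [hm, show (k : X) * g * t * ((k : X) * g)⁻¹ = (k : X) * (g * t * g⁻¹) * (k : X)⁻¹ by group]
      have hmN : m ∈ normalizer ((T : Subgroup X) : Set X) := mem_normalizer_fintype hmT
      have hma : m * a * m⁻¹ = a * b := by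
        rw [hm, show (k : X) * g * a * ((k : X) * g)⁻¹ = (k : X) * (g * a * g⁻¹) * (k : X)⁻¹ by group, e,
          mem_centralizer_singleton_iff.1 k.2, mul_inv_cancel_right]
      haveI : ((T : Subgroup X).subgroupOf (normalizer ((T : Subgroup X) : Set X))).Normal :=
        normal_in_normalizer
      set i := ((T : Subgroup X).subgroupOf (normalizer ((T : Subgroup X) : Set X))).index with hi
      obtain ⟨j, hj⟩ : Odd i := Nat.not_even_iff_odd.1 fun he => T.not_dvd_index
        ((even_iff_two_dvd.1 he).trans (relIndex_dvd_index_of_le le_normalizer))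
      have hmi : m ^ i ∈ (T : Subgroup X) := mem_subgroupOf.1 (Subgroup.pow_index_mem _
        (⟨m, hmN⟩ : normalizer ((T : Subgroup X) : Set X)))
      have hmm : Commute (m * m) a := mul_inv_eq_iff_eq_mul.1 (by
        rw [show m * m * a * (m * m)⁻¹ = m * (m * a * m⁻¹) * m⁻¹ by group, hma,
          show m * (a * b) * m⁻¹ = (m * a * m⁻¹) * (m * b * m⁻¹) by group, hma,
          show m * b * m⁻¹ = b by rw [← (hbc m).eq, mul_inv_cancel_right], mul_assoc, h.sq b hb, mul_one])
      have h3 : m ^ i * a * (m ^ i)⁻¹ = a * b := by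
        rw [hj, pow_succ', pow_mul, pow_two,
          show m * (m * m) ^ j * a * (m * (m * m) ^ j)⁻¹ =
            m * ((m * m) ^ j * a * ((m * m) ^ j)⁻¹) * m⁻¹ by group,
          (hmm.pow_left j).eq, mul_inv_cancel_right, hma]
      rw [← (h.central a ha _ hmi).eq, mul_inv_cancel_right] at h3
      exact hb1 (mul_eq_left.1 h3.symm)
  refine ⟨fun a ha g => ?_⟩
  have hac : Commute a g := by
    by_cases ha1 : a = 1
    · subst ha1; exact Commute.one_left g
    by_cases hab : a = b
    · subst hab; exact hbc g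
    have h1 := CfsgLib.ZStar.mem_oddCore_of_sylow T (orderOf_eq_two_of ha1 (h.sq a ha)) (h.le ha)
      (key a ha ha1 hab) g
    rw [h.core, mem_bot] at h1
    exact mul_inv_eq_iff_eq_mul.1 (mul_inv_eq_one.1 h1)
  rw [← hac.eq, mul_inv_cancel_right]
  exact ha

theorem le_of_meet (hA : ¬ A.Normal) {N : Subgroup X} [hN : N.Normal] {b : X} (hb : b ∈ A) (hbN : b ∈ N)
    (hb1 : b ≠ 1) : A ≤ N := by
  intro a ha
  by_contra haN
  refine hA (h.normal_of_isolated hb hb1 fun g hg => ?_)
  have h1 := h.closed.2 b hb g hg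
  have ha1 : a ≠ 1 := fun e => haN (e ▸ one_mem N)
  have hba : b ≠ a := fun e => haN (e ▸ hbN)
  rcases h.four hb ha hb1 ha1 hba h1 with e | e | e | e
  · exact absurd (conj_eq_one_iff.1 e) hb1
  · exact e
  · exact absurd (e ▸ hN.conj_mem b hbN g) haN
  · refine absurd ?_ haN
    have : a = b⁻¹ * (g * b * g⁻¹) := by rw [e, inv_mul_cancel_left]
    rw [this]
    exact mul_mem (inv_mem hbN) (hN.conj_mem b hbN g)

theorem disjoint_or_le (hA : ¬ A.Normal) (N : Subgroup X) [N.Normal] : A ⊓ N = ⊥ ∨ A ≤ N := by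
  rcases bot_or_exists_ne_one (A ⊓ N) with e | ⟨b, hb, hb1⟩
  · exact Or.inl e
  · exact Or.inr (h.le_of_meet hA hb.1 hb.2 hb1)

/-- A normal subgroup of the closure missing `A` is a central 2-group. -/
theorem central_of_disjoint (N : Subgroup X) [hN : N.Normal] (hle : N ≤ normalClosure (A : Set X))
    (hd : A ⊓ N = ⊥) :
    N ≤ (T : Subgroup X) ∧ ∀ n ∈ N, ∀ l ∈ normalClosure (A : Set X), Commute n l := by
  have hR : Cfsg.IsStronglyClosed ((T : Subgroup X) ⊓ N) (T : Subgroup X) :=
    CfsgLib.TwoFusion.ProductFusion.closed_inf ⟨le_rfl, fun x _ g hg => hg⟩ N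
  have hd' : A ⊓ ((T : Subgroup X) ⊓ N) = ⊥ := le_bot_iff.1 (hd ▸ inf_le_inf_left _ inf_le_right)
  have hP := CfsgLib.TwoFusion.ProductFusion.normalClosure_commutator_le h.closed hR
    (fun a ha t ht => (h.central a ha t ht.1).eq) hd'
  rw [h.core] at hP
  have key : ∀ r, r ∈ (T : Subgroup X) → r ∈ N → ∀ l ∈ normalClosure (A : Set X), Commute r l :=
    fun r hrT hrN l hl => (commutatorElement_eq_one_iff_commute.1 (mem_bot.1 (hP (commutator_mem_commutator hl
      (subset_normalClosure (show r ∈ ((T : Subgroup X) ⊓ N : Subgroup X) from ⟨hrT, hrN⟩)))))).symm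
  have hT := le_sylow_of_central T h.core N fun r hrN hrT n hn => key r hrT hrN n (hle hn)
  exact ⟨hT, fun n hn => key n (hT hn) hn⟩

theorem not_le_sylow (hA : ¬ A.Normal) {N : Subgroup X} [hN : N.Normal] (hAN : A ≤ N) :
    ¬ N ≤ (T : Subgroup X) := fun hNT =>
  hA ⟨fun a ha g => h.closed.2 a ha g (hNT (hN.conj_mem a (hAN ha) g))⟩

theorem closure_perfect (hA : ¬ A.Normal) :
    ⁅normalClosure (A : Set X), normalClosure (A : Set X)⁆ = normalClosure (A : Set X) := by
  haveI := Fact.mk Nat.prime_two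
  set L := normalClosure (A : Set X) with hL
  set D := ⁅L, L⁆ with hD
  haveI hDn : D.Normal := commutator_normal L L
  have hDL : D ≤ L := commutator_le_self L
  rcases h.disjoint_or_le hA D with hd | hd
  swap
  · exact le_antisymm hDL (normalClosure_le_normal hd)
  exfalso
  obtain ⟨hDT, hDc⟩ := h.central_of_disjoint D hDL hd
  -- squares of `L` lie in `D`
  have hsq : ∀ x ∈ L, x * x ∈ D ∧ x ∈ L := by
    let R : Subgroup X :=
      { carrier := {x | x * x ∈ D ∧ x ∈ L}
        one_mem' := ⟨by simp, one_mem L⟩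
        mul_mem' := by
          rintro x y ⟨hx, hxL⟩ ⟨hy, hyL⟩
          refine ⟨?_, mul_mem hxL hyL⟩
          rw [show x * y * (x * y) = (x * x) * ⁅x⁻¹, y⁆ * (y * y) by rw [commutatorElement_def]; group]
          exact mul_mem (mul_mem hx (commutator_mem_commutator (inv_mem hxL) hyL)) hy
        inv_mem' := by
          rintro x ⟨hx, hxL⟩
          refine ⟨?_, inv_mem hxL⟩
          rw [← mul_inv_rev]; exact inv_mem hx }
    intro x hx
    refine (show L ≤ R from ?_) hx
    rw [hL, normalClosure, Subgroup.closure_le]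
    intro y hy
    obtain ⟨a, ha, hay⟩ := Group.mem_conjugatesOfSet_iff.1 hy
    obtain ⟨g, rfl⟩ := isConj_iff.1 hay
    refine ⟨?_, Subgroup.subset_closure hy⟩
    rw [show g * a * g⁻¹ * (g * a * g⁻¹) = g * (a * a) * g⁻¹ by group, h.sq a ha, mul_one, mul_inv_cancel]
    exact one_mem D
  have hLp : IsPGroup 2 L := fun x => by
    obtain ⟨i, hi⟩ := IsPGroup.iff_orderOf.1 T.2 ⟨(x : X) * x, hDT (hsq x x.2).1⟩
    rw [Subgroup.orderOf_mk] at hi
    refine ⟨i + 1, Subtype.ext ?_⟩
    rw [SubgroupClass.coe_pow, OneMemClass.coe_one, pow_succ', pow_mul, pow_two, ← hi, pow_orderOf_eq_one]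
  exact h.not_le_sylow hA (N := L) subset_normalClosure (hLp.le_sylow_of_normal T)

/-- The hypotheses inside the closure. -/
theorem restrict {Q : Sylow 2 (normalClosure (A : Set X))}
    (hQ : (Q : Subgroup (normalClosure (A : Set X))) = (T : Subgroup X).subgroupOf (normalClosure (A : Set X))) :
    Sec Q (A.subgroupOf (normalClosure (A : Set X))) where
  core := CfsgLib.TwoFusion.ProductFusion.oddCore_normal_bot h.core _
  card := by
    rw [Nat.card_congr (subgroupOfEquivOfLe subset_normalClosure).toEquiv]; exact h.card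
  sq a ha := Subtype.ext (h.sq a ha)
  central a ha t ht := by
    rw [hQ] at ht
    exact Subtype.ext (h.central a ha t ht).eq
  closed := by
    rw [hQ]
    exact ⟨fun a ha => h.le ha, fun a ha g hg => h.closed.2 a ha g hg⟩

theorem not_normal_inner (hA : ¬ A.Normal) :
    ¬ (A.subgroupOf (normalClosure (A : Set X))).Normal := by
  haveI := Fact.mk Nat.prime_two
  intro hn
  set L := normalClosure (A : Set X) with hL
  have hle : A.subgroupOf L ≤ Cfsg.pCore 2 L :=
    CfsgLib.Core.le_pCore ((T.2.to_le h.le).comap_of_injective L.subtype L.subtype_injective)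
  set R := (Cfsg.pCore 2 L).map L.subtype
  haveI : R.Normal := inferInstance
  have hRT : R ≤ (T : Subgroup X) :=
    ((CfsgLib.Core.isPGroup_pCore 2 L).map L.subtype).le_sylow_of_normal T
  exact h.not_le_sylow hA (N := R)
    (fun a ha => ⟨⟨a, subset_normalClosure ha⟩, hle (show (⟨a, subset_normalClosure ha⟩ : L) ∈ _ from ha), rfl⟩)
    hRT

/-- Inside the closure `A` still generates normally. -/
theorem closure_inner :
    normalClosure ((A.subgroupOf (normalClosure (A : Set X))) : Set (normalClosure (A : Set X))) = ⊤ := by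
  set L := normalClosure (A : Set X) with hL
  set L1 := normalClosure ((A.subgroupOf L) : Set L)
  suffices hle : L ≤ L1.map L.subtype by
    refine eq_top_iff.2 fun x _ => ?_
    obtain ⟨y, hy, e⟩ := hle x.2
    obtain rfl := Subtype.ext e
    exact hy
  conv_lhs => rw [hL]
  rw [normalClosure, Subgroup.closure_le]
  intro y hy
  obtain ⟨a, ha, hay⟩ := Group.mem_conjugatesOfSet_iff.1 hy
  obtain ⟨g, rfl⟩ := isConj_iff.1 hay
  obtain ⟨k, hk, t, ht, e⟩ :=
    CfsgLib.TwoFusion.ProductFusion.frattini h.closed L ha (subset_normalClosure ha) g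
  exact ⟨⟨k, hk⟩ * ⟨t, ht.2⟩ * ⟨k, hk⟩⁻¹,
    (inferInstance : L1.Normal).conj_mem _ (subset_normalClosure (show (⟨t, ht.2⟩ : L) ∈ A.subgroupOf L from ht.1)) _,
    e.symm⟩

/-- The centre of the closure is a 2-group missing `A`. -/
theorem center_spec (hA : ¬ A.Normal) :
    (∀ z : normalClosure (A : Set X), z ∈ center (normalClosure (A : Set X)) → (z : X) ∈ (T : Subgroup X)) ∧
      ∀ a ∈ A, ∀ (haL : a ∈ normalClosure (A : Set X)),
        (⟨a, haL⟩ : normalClosure (A : Set X)) ∈ center (normalClosure (A : Set X)) → a = 1 := by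
  obtain ⟨Q, hQ⟩ := exists_sylow_of_normal T (normalClosure (A : Set X))
  have h' := h.restrict hQ
  have hA' := h.not_normal_inner hA
  rcases h'.disjoint_or_le hA' (center (normalClosure (A : Set X))) with hd | hd
  · refine ⟨fun z hz => ?_, fun a ha haL hz => ?_⟩
    · have h1 := (h'.central_of_disjoint _ (by rw [h.closure_inner]; exact le_top) hd).1 hz
      rw [hQ] at h1
      exact h1
    · have h1 : (⟨a, haL⟩ : normalClosure (A : Set X)) ∈ A.subgroupOf _ ⊓ center _ := ⟨ha, hz⟩
      rw [hd, mem_bot] at h1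
      exact congrArg Subtype.val h1
  · exact absurd ⟨fun a ha g => by rw [mem_center_iff.1 (hd ha) g, mul_inv_cancel_right]; exact ha⟩ hA'

/-- The closure modulo its centre is simple. -/
theorem quot_simple (hA : ¬ A.Normal) :
    IsSimpleGroup (↥(normalClosure (A : Set X)) ⧸ center (normalClosure (A : Set X))) := by
  set L := normalClosure (A : Set X) with hL
  obtain ⟨Q, hQ⟩ := exists_sylow_of_normal T L
  have h' := h.restrict hQ
  have hA' := h.not_normal_inner hA
  haveI : Nontrivial (↥L ⧸ center L) := by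
    rw [QuotientGroup.nontrivial_iff]
    intro e
    exact hA' ⟨fun a ha g => by
      rw [mem_center_iff.1 (e ▸ mem_top a) g, mul_inv_cancel_right]; exact ha⟩
  refine ⟨fun N hN => ?_⟩
  haveI := hN
  have hmap : (N.comap (QuotientGroup.mk' (center L))).map (QuotientGroup.mk' (center L)) = N :=
    map_comap_eq_self_of_surjective (QuotientGroup.mk'_surjective _) N
  rcases h'.disjoint_or_le hA' (N.comap (QuotientGroup.mk' (center L))) with hd | hd
  · left
    obtain ⟨-, hc⟩ := h'.central_of_disjoint _ (by rw [h.closure_inner]; exact le_top) hd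
    rw [← hmap, Subgroup.map_eq_bot_iff, QuotientGroup.ker_mk']
    exact fun x hx => mem_center_iff.2 fun l => (hc x hx l (by rw [h.closure_inner]; exact mem_top l)).symm.eq
  · right
    rw [← hmap, show N.comap (QuotientGroup.mk' (center L)) = ⊤ from top_le_iff.1
      (h.closure_inner.symm.le.trans (normalClosure_le_normal hd)),
      map_top_of_surjective _ (QuotientGroup.mk'_surjective _)]

theorem quot_not_comm (hA : ¬ A.Normal) :
    ¬ IsMulCommutative (↥(normalClosure (A : Set X)) ⧸ center (normalClosure (A : Set X))) := by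
  set L := normalClosure (A : Set X) with hL
  intro hc
  have hD : commutator L ≤ center L := by
    rw [_root_.commutator_def]
    refine commutator_le.2 fun x _ y _ => (QuotientGroup.eq_one_iff _).1 ?_
    show QuotientGroup.mk' (center L) ⁅x, y⁆ = 1
    rw [map_commutatorElement, commutatorElement_eq_one_iff_commute]
    exact hc.is_comm.comm _ _
  obtain ⟨a, ha, ha1⟩ := (bot_or_exists_ne_one A).resolve_left fun e => by
    have := h.card; rw [e, Subgroup.card_bot] at this; omega
  have h1 : (⟨a, subset_normalClosure ha⟩ : L) ∈ commutator L := by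
    have hp : (commutator L).map L.subtype = L := by
      rw [map_subtype_commutator]; exact h.closure_perfect hA
    obtain ⟨y, hy, e⟩ := hp.ge (subset_normalClosure ha)
    rwa [show (⟨a, subset_normalClosure ha⟩ : L) = y from Subtype.ext e.symm]
  exact ha1 ((h.center_spec hA).2 a ha _ (hD h1))

/-- An element inducing the identity modulo the centre centralises the closure. -/
theorem centralizes_of_mod (hA : ¬ A.Normal) {d : X}
    (hd : ∀ l : normalClosure (A : Set X), ∃ z ∈ center (normalClosure (A : Set X)),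
      d * (l : X) * d⁻¹ = (l : X) * z) : d ∈ centralizer (normalClosure (A : Set X) : Set X) := by
  set L := normalClosure (A : Set X) with hL
  suffices hle : L ≤ centralizer ({d} : Set X) from
    mem_centralizer_iff.2 fun l hl => mem_centralizer_singleton_iff.1 (hle hl)
  refine (h.closure_perfect hA).ge.trans ?_
  refine commutator_le.2 fun x hx y hy => mem_centralizer_singleton_iff.2 ?_
  obtain ⟨z, hz, ez⟩ := hd ⟨x, hx⟩
  obtain ⟨w, hw, ew⟩ := hd ⟨y, hy⟩
  have hz' : ∀ l : L, Commute (z : L) l := fun l => (mem_center_iff.1 hz l).symm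
  have hw' : ∀ l : L, Commute (w : L) l := fun l => (mem_center_iff.1 hw l).symm
  have key : ⁅(⟨x, hx⟩ : L) * z, ⟨y, hy⟩ * w⁆ = ⁅(⟨x, hx⟩ : L), ⟨y, hy⟩⁆ := by
    set p : L := ⟨x, hx⟩
    set q : L := ⟨y, hy⟩
    rw [commutatorElement_def, commutatorElement_def, mul_inv_rev, mul_inv_rev]
    calc p * z * (q * w) * (z⁻¹ * p⁻¹) * (w⁻¹ * q⁻¹)
        = p * (q * w) * (z * z⁻¹) * p⁻¹ * (w⁻¹ * q⁻¹) := by
          rw [mul_assoc p z, (hz' (q * w)).eq]; group
      _ = p * q * (w * p⁻¹) * (w⁻¹ * q⁻¹) := by group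
      _ = p * q * p⁻¹ * q⁻¹ := by rw [(hw' p⁻¹).eq]; group
  have e : d * ⁅x, y⁆ * d⁻¹ = ⁅x, y⁆ := by
    calc d * ⁅x, y⁆ * d⁻¹ = ⁅d * x * d⁻¹, d * y * d⁻¹⁆ := by
          simp only [commutatorElement_def]; group
      _ = ⁅((⟨x, hx⟩ : L) : X) * (z : X), ((⟨y, hy⟩ : L) : X) * (w : X)⁆ := by rw [← ez, ← ew]
      _ = ⁅x, y⁆ := congrArg Subtype.val key
  exact (mul_inv_eq_iff_eq_mul.1 e).symm

/-- An odd subgroup of `C(a)` normalised by it is trivial if `A` is normal. -/
theorem eq_bot_of_normal (hA : A.Normal) {a : X} (ha : a ∈ A) {D : Subgroup X} (hD : Odd (Nat.card D))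
    (hDC : D ≤ centralizer ({a} : Set X)) (hCD : centralizer ({a} : Set X) ≤ normalizer (D : Set X)) :
    D = ⊥ := by
  set R := centralizer (A : Set X) with hR
  haveI : R.Normal := inferInstance
  have hRC : R ≤ centralizer ({a} : Set X) := Subgroup.centralizer_le (Set.singleton_subset_iff.2 ha)
  have hDR : D ≤ R := fun d hd => mem_centralizer_iff.2 fun b hb => by
    have hbC : b ∈ centralizer ({a} : Set X) := mem_centralizer_singleton_iff.2 (h.comm hb ha).eq
    have h1 : d * b * d⁻¹ * b⁻¹ ∈ D := by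
      rw [show d * b * d⁻¹ * b⁻¹ = d * (b * d⁻¹ * b⁻¹) by group]
      exact mul_mem hd ((mem_normalizer_iff.1 (hCD hbC) _).1 (inv_mem hd))
    have h2 : d * b * d⁻¹ * b⁻¹ = 1 := CfsgLib.ZStar.eq_one_of_odd_of_sq
      (hD.of_dvd_nat (D.orderOf_dvd_natCard h1))
      (by rw [pow_two]; exact h.sq _ (mul_mem (hA.conj_mem b hb d) (inv_mem hb)))
    exact (mul_inv_eq_iff_eq_mul.1 (mul_inv_eq_one.1 h2)).symm
  haveI : (D.subgroupOf R).Normal := (normal_subgroupOf_iff_le_normalizer hDR).2 (hRC.trans hCD)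
  have hb : D.subgroupOf R = ⊥ := le_bot_iff.1
    ((CfsgLib.TwoFusion.ProductFusion.oddCore_normal_bot h.core R) ▸ CfsgLib.ZStar.le_oddCore inferInstance
      (by rwa [Nat.card_congr (subgroupOfEquivOfLe hDR).toEquiv]))
  exact (eq_bot_iff_forall _).2 fun d hd =>
    congrArg Subtype.val ((eq_bot_iff_forall _).1 hb ⟨d, hDR hd⟩ hd)

/-- The action of `X` on the closure modulo its centre. -/
theorem exists_action :
    ∃ ψ : X →* MulAut (↥(normalClosure (A : Set X)) ⧸ center (normalClosure (A : Set X))),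
      ∀ (g : X) (l : normalClosure (A : Set X)), ψ g (QuotientGroup.mk l) =
        QuotientGroup.mk ⟨g * l * g⁻¹, (normalClosure_normal (s := (A : Set X))).conj_mem l l.2 g⟩ := by
  set L := normalClosure (A : Set X) with hL
  have hc : ∀ f : MulAut L, (center L).map (f : L →* L) = center L := fun f =>
    Subgroup.characteristic_iff_map_eq.1 inferInstance f
  refine ⟨{ toFun := fun g => QuotientGroup.congr (center L) (center L) (MulAut.conjNormal (H := L) g) (hc _)
            map_one' := ?_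
            map_mul' := fun g k => ?_ }, fun g l => rfl⟩
  · ext q
    induction q using QuotientGroup.induction_on with
    | H l =>
      show (QuotientGroup.mk (MulAut.conjNormal (1 : X) l) : ↥L ⧸ center L) = QuotientGroup.mk l
      rw [map_one]; rfl
  · ext q
    induction q using QuotientGroup.induction_on with
    | H l =>
      show (QuotientGroup.mk (MulAut.conjNormal (g * k) l) : ↥L ⧸ center L) =
        QuotientGroup.mk (MulAut.conjNormal g (MulAut.conjNormal k l))
      rw [map_mul]; rfl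

/-- The image of the centraliser of `a` is the centraliser of the image. -/
theorem mem_centralizer_of_mk (hA : ¬ A.Normal) {a : X} (ha : a ∈ A) {l : normalClosure (A : Set X)}
    (hl : Commute (QuotientGroup.mk l : ↥(normalClosure (A : Set X)) ⧸ center (normalClosure (A : Set X)))
      (QuotientGroup.mk ⟨a, subset_normalClosure ha⟩)) : Commute (l : X) a := by
  set a' : normalClosure (A : Set X) := ⟨a, subset_normalClosure ha⟩
  have hz : l * a' * l⁻¹ * a'⁻¹ ∈ center (normalClosure (A : Set X)) := (QuotientGroup.eq_one_iff _).1 (by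
    rw [QuotientGroup.mk_mul, QuotientGroup.mk_mul, QuotientGroup.mk_mul, QuotientGroup.mk_inv, hl.eq,
      mul_inv_cancel_right, QuotientGroup.mk_inv, mul_inv_cancel])
  have hzT := (h.center_spec hA).1 _ hz
  have hT : (l : X) * a * (l : X)⁻¹ ∈ (T : Subgroup X) := by
    have := mul_mem hzT (h.le ha)
    simpa [a'] using this
  have hA1 : (l : X) * a * (l : X)⁻¹ * a⁻¹ ∈ A := mul_mem (h.closed.2 a ha _ hT) (inv_mem ha)
  have h1 := (h.center_spec hA).2 _ hA1 (l * a' * l⁻¹ * a'⁻¹).2 hz
  exact mul_inv_eq_iff_eq_mul.1 (mul_inv_eq_one.1 h1)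

/-- An odd subgroup of `C(a)` normalised by it is trivial if the simple section is balanced at `a`. -/
theorem eq_bot_of_locBal (hA : ¬ A.Normal) {a : X} (ha : a ∈ A)
    (hcore : Cfsg.oddCore ↥(centralizer ({(QuotientGroup.mk ⟨a, subset_normalClosure ha⟩ :
      ↥(normalClosure (A : Set X)) ⧸ center (normalClosure (A : Set X)))} : Set _)) = ⊥)
    (hfix : ∀ α : MulAut (↥(normalClosure (A : Set X)) ⧸ center (normalClosure (A : Set X))),
      Odd (orderOf α) → (∀ q ∈ centralizer ({(QuotientGroup.mk ⟨a, subset_normalClosure ha⟩ :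
        ↥(normalClosure (A : Set X)) ⧸ center (normalClosure (A : Set X)))} : Set _), α q = q) → α = 1)
    {D : Subgroup X} (hD : Odd (Nat.card D))
    (hDC : D ≤ centralizer ({a} : Set X)) (hCD : centralizer ({a} : Set X) ≤ normalizer (D : Set X)) :
    D = ⊥ := by
  haveI := Fact.mk Nat.prime_two
  set L := normalClosure (A : Set X) with hL
  set v : ↥L ⧸ center L := QuotientGroup.mk ⟨a, subset_normalClosure ha⟩ with hv
  set π := QuotientGroup.mk' (center L)
  -- `D` meets `L` trivially
  have hDL : ∀ d ∈ D, d ∈ L → d = 1 := by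
    set P := (D.subgroupOf L).map π with hP
    have hPv : P ≤ centralizer ({v} : Set _) := by
      rintro _ ⟨d, hd, rfl⟩
      exact mem_centralizer_singleton_iff.2 (Commute.map (show Commute d ⟨a, subset_normalClosure ha⟩ from
        Subtype.ext (mem_centralizer_singleton_iff.1 (hDC hd))) π).eq
    have hvP : centralizer ({v} : Set _) ≤ normalizer (P : Set _) := by
      intro q hq
      obtain ⟨l, rfl⟩ := QuotientGroup.mk'_surjective _ q
      have hla := h.mem_centralizer_of_mk hA ha (mem_centralizer_singleton_iff.1 hq)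
      refine mem_normalizer_fintype ?_
      rintro _ ⟨d, hd, rfl⟩
      exact ⟨l * d * l⁻¹, (mem_normalizer_iff.1 (hCD (mem_centralizer_singleton_iff.2 hla.eq)) d).1 hd,
        by rw [map_mul, map_mul, map_inv]⟩
    have hPodd : Odd (Nat.card P) := hD.of_dvd_nat (((D.subgroupOf L).card_map_dvd π).trans (by
      rw [← card_map_of_injective L.subtype_injective, subgroupOf_map_subtype]
      exact card_dvd_of_le inf_le_left))
    haveI : (P.subgroupOf (centralizer ({v} : Set _))).Normal := (normal_subgroupOf_iff_le_normalizer hPv).2 hvP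
    have hPbot : P.subgroupOf (centralizer ({v} : Set _)) = ⊥ := le_bot_iff.1 (hcore ▸
      CfsgLib.ZStar.le_oddCore inferInstance (by rwa [Nat.card_congr (subgroupOfEquivOfLe hPv).toEquiv]))
    intro d hd hdL
    have h1 : π ⟨d, hdL⟩ ∈ P := mem_map_of_mem π (show (⟨d, hdL⟩ : L) ∈ D.subgroupOf L from hd)
    have h2 : π ⟨d, hdL⟩ = 1 :=
      congrArg Subtype.val ((eq_bot_iff_forall _).1 hPbot ⟨π ⟨d, hdL⟩, hPv h1⟩ h1)
    have h3 := (h.center_spec hA).1 _ ((QuotientGroup.eq_one_iff _).1 h2)
    obtain ⟨i, hi⟩ := IsPGroup.iff_orderOf.1 T.2 ⟨d, h3⟩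
    rw [Subgroup.orderOf_mk] at hi
    exact orderOf_eq_one_iff.1 (Nat.eq_one_of_dvd_coprimes
      ((Nat.coprime_two_left.2 (hD.of_dvd_nat (D.orderOf_dvd_natCard hd))).pow_left i) (hi ▸ dvd_rfl) dvd_rfl)
  obtain ⟨ψ, hψ⟩ := h.exists_action
  set R := centralizer (L : Set X) with hR
  haveI : R.Normal := inferInstance
  have hDR : D ≤ R := by
    intro d hd
    have hα : ψ d = 1 := by
      refine hfix _ ((hD.of_dvd_nat (D.orderOf_dvd_natCard hd)).of_dvd_nat (orderOf_map_dvd ψ d)) fun q hq => ?_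
      obtain ⟨l, rfl⟩ := QuotientGroup.mk'_surjective _ q
      have hla := h.mem_centralizer_of_mk hA ha (mem_centralizer_singleton_iff.1 hq)
      have h1 : d * (l : X) * d⁻¹ * (l : X)⁻¹ = 1 := by
        refine hDL _ ?_ (mul_mem ((normalClosure_normal (s := (A : Set X))).conj_mem l l.2 d) (inv_mem l.2))
        rw [show d * (l : X) * d⁻¹ * (l : X)⁻¹ = d * ((l : X) * d⁻¹ * (l : X)⁻¹) by group]
        exact mul_mem hd ((mem_normalizer_iff.1 (hCD (mem_centralizer_singleton_iff.2 hla.eq)) _).1 (inv_mem hd))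
      show ψ d (QuotientGroup.mk l) = QuotientGroup.mk l
      rw [hψ]
      exact congrArg _ (Subtype.ext (mul_inv_eq_one.1 h1))
    refine h.centralizes_of_mod hA fun l => ?_
    have h1 : ψ d (QuotientGroup.mk l) = QuotientGroup.mk l := by rw [hα]; rfl
    rw [hψ, eq_comm, QuotientGroup.eq] at h1
    exact ⟨_, h1, by simp [mul_assoc]⟩
  have hRC : R ≤ centralizer ({a} : Set X) :=
    Subgroup.centralizer_le (Set.singleton_subset_iff.2 (subset_normalClosure ha))
  haveI : (D.subgroupOf R).Normal := (normal_subgroupOf_iff_le_normalizer hDR).2 (hRC.trans hCD)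
  have hb : D.subgroupOf R = ⊥ := le_bot_iff.1
    ((CfsgLib.TwoFusion.ProductFusion.oddCore_normal_bot h.core R) ▸ CfsgLib.ZStar.le_oddCore inferInstance
      (by rwa [Nat.card_congr (subgroupOfEquivOfLe hDR).toEquiv]))
  exact (eq_bot_iff_forall _).2 fun d hd =>
    congrArg Subtype.val ((eq_bot_iff_forall _).1 hb ⟨d, hDR hd⟩ hd)

/-- The quotient of the closure inherits a central strongly closed four-group. -/
theorem quot_sec (hA : ¬ A.Normal) :
    ∃ (P : Sylow 2 (↥(normalClosure (A : Set X)) ⧸ center (normalClosure (A : Set X)))),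
      Sec P ((A.subgroupOf (normalClosure (A : Set X))).map (QuotientGroup.mk' (center _))) := by
  haveI := Fact.mk Nat.prime_two
  set L := normalClosure (A : Set X) with hL
  set π := QuotientGroup.mk' (center L) with hπ
  have hπs : Function.Surjective π := QuotientGroup.mk'_surjective _
  obtain ⟨Q, hQ⟩ := exists_sylow_of_normal T L
  have h' := h.restrict hQ
  refine ⟨Q.mapSurjective hπs, ?_⟩
  haveI := h.quot_simple hA
  obtain ⟨b, hb, hb1⟩ := (bot_or_exists_ne_one A).resolve_left fun e => by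
    have := h.card; rw [e, Subgroup.card_bot] at this; omega
  have hinj : ∀ x ∈ A.subgroupOf L, π x = 1 → x = 1 := fun x hx e =>
    Subtype.ext ((h.center_spec hA).2 x hx x.2 ((QuotientGroup.eq_one_iff x).1 e))
  have hord : orderOf (π ⟨b, subset_normalClosure hb⟩) = 2 :=
    orderOf_eq_two_of (fun e => hb1 (congrArg Subtype.val (hinj _ hb e)))
      (by rw [← map_mul, show (⟨b, subset_normalClosure hb⟩ : L) * ⟨b, _⟩ = 1 from Subtype.ext (h.sq b hb),
        map_one])
  refine ⟨?_, ?_, ?_, ?_, ?_⟩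
  · refine ((inferInstance : (Cfsg.oddCore (↥L ⧸ center L)).Normal).eq_bot_or_eq_top).resolve_right fun e => ?_
    have h1 := CfsgLib.ZStar.odd_card_oddCore (↥L ⧸ center L)
    rw [e, Subgroup.card_top] at h1
    exact Nat.not_even_iff_odd.2 h1 (even_iff_two_dvd.2 (hord ▸ orderOf_dvd_natCard _))
  · rw [← h'.card]
    refine (Nat.card_congr (Equiv.ofBijective
      (fun x : A.subgroupOf L => (⟨π x.1, mem_map_of_mem π x.2⟩ : ↥((A.subgroupOf L).map π))) ⟨?_, ?_⟩)).symm
    · intro x y e
      refine Subtype.ext (inv_mul_eq_one.1 (hinj _ (mul_mem (inv_mem x.2) y.2) ?_))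
      rw [map_mul, map_inv, show π x.1 = π y.1 from congrArg Subtype.val e, inv_mul_cancel]
    · rintro ⟨_, x, hx, rfl⟩
      exact ⟨⟨x, hx⟩, rfl⟩
  · rintro _ ⟨x, hx, rfl⟩
    rw [← map_mul, h'.sq x hx, map_one]
  · rintro _ ⟨x, hx, rfl⟩ t ht
    rw [Sylow.coe_mapSurjective] at ht
    obtain ⟨t, ht, rfl⟩ := ht
    exact (h'.central x hx t ht).map π
  · rw [Sylow.coe_mapSurjective]
    refine ⟨map_mono h'.le, ?_⟩
    rintro _ ⟨x, hx, rfl⟩ g hg
    obtain ⟨g, rfl⟩ := hπs g
    obtain ⟨y, hy, e⟩ := hg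
    rw [← map_inv, ← map_mul, ← map_mul] at e ⊢
    refine mem_map_of_mem π (h'.closed.2 x hx g ?_)
    have hz : y⁻¹ * (g * x * g⁻¹) ∈ center L :=
      (QuotientGroup.eq_one_iff _).1 (show π _ = 1 by rw [map_mul, map_inv, e, inv_mul_cancel])
    have hzQ : y⁻¹ * (g * x * g⁻¹) ∈ (Q : Subgroup L) := by rw [hQ]; exact (h.center_spec hA).1 _ hz
    simpa using mul_mem hy hzQ

end Sec

end CfsgLib.Goldschmidt.RankTwoCase
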